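/-
Half-turns of a three-dimensional orthogonal space.
-/
import Cfsg.Agent.Lib.Geo.OrthTensor.Siegel

set_option autoImplicit false
set_option linter.unusedSectionVars false

namespace CfsgLib.Geo.OrthTensor.Square

open CfsgLib.Classical Module
open CfsgLib.Geo.MixTensor (SymForm refl refl_apply)
open LinearMap (BilinForm)

variable {F : Type*} [Field F] {U : Type*} [AddCommGroup U] [Module F U] [FiniteDimensional F U]

/-- The half-turn with axis `c`. -/
def hh (f : BilinForm F U) (c : U) : U →ₗ[F] U := -refl f c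

theorem hh_apply (f : BilinForm F U) (c x : U) : hh f c x = (2 / f c c * f c x) • c - x := by
  rw [hh, LinearMap.neg_apply, refl_apply, neg_sub]

variable {f : BilinForm F U} (hf : SymForm f)
include hf

theorem hh_self {c : U} (hc : f c c ≠ 0) : hh f c c = c := by
  rw [hh_apply]
  match_scalars
  field_simp
  ring

theorem hh_perp {c x : U} (h : f c x = 0) : hh f c x = -x := by simp [hh_apply, h]

theorem hh_hh {c : U} (hc : f c c ≠ 0) (x : U) : hh f c (hh f c x) = x := by
  simp [hh, hf.refl_refl hc]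

theorem hh_isometry {c : U} (hc : f c c ≠ 0) (x y : U) : f (hh f c x) (hh f c y) = f x y := by
  simp [hh, hf.refl_isometry hc]

theorem hh_smul (c : U) {t : F} (ht : t ≠ 0) : hh f (t • c) = hh f c := by
  refine LinearMap.ext fun x => ?_
  simp only [hh_apply, map_smul, LinearMap.smul_apply, smul_eq_mul, smul_smul]
  congr 2
  field_simp

theorem hh_ne_id (h3 : finrank F U = 3) {c : U} (hc : f c c ≠ 0) {t : F} : hh f c ≠ t • LinearMap.id := fun h => by
  obtain ⟨b, hb, hbP⟩ := exists_aniso_perp hf (Submodule.span F {c}) (fun x hx hxP => by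
    obtain ⟨s, rfl⟩ := Submodule.mem_span_singleton.1 hx
    have := hxP c (Submodule.mem_span_singleton_self c)
    rw [map_smul, smul_eq_mul, mul_eq_zero] at this
    rw [this.resolve_right hc, zero_smul]) (by
    rw [h3]
    exact lt_of_le_of_lt (finrank_span_singleton (fun e => hc (by simp [e]))).le (by omega))
  have h1 := LinearMap.congr_fun h c
  have h2 := LinearMap.congr_fun h b
  rw [hh_self hf hc, LinearMap.smul_apply, LinearMap.id_apply] at h1
  rw [hh_perp hf (hbP c (Submodule.mem_span_singleton_self c)), LinearMap.smul_apply, LinearMap.id_apply] at h2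
  have hc0 : c ≠ 0 := fun e => hc (by simp [e])
  have hb0 : b ≠ 0 := fun e => hb (by simp [e])
  have e1 : t = 1 := smul_left_injective F hc0 (by simpa using h1.symm)
  have e2 : t = -1 := smul_left_injective F hb0 (by simpa using h2.symm)
  exact hf.two (by linear_combination e2 - e1)

/-- An orthogonal frame spans. -/
theorem frame_ext (h3 : finrank F U = 3) {a b c : U} (ha : f a a ≠ 0) (hb : f b b ≠ 0) (hc : f c c ≠ 0)
    (hab : f a b = 0) (hac : f a c = 0) (hbc : f b c = 0) {M : Type*} [AddCommGroup M] [Module F M]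
    {L L' : U →ₗ[F] M} (e1 : L a = L' a) (e2 : L b = L' b) (e3 : L c = L' c) : L = L' := by
  have hli : LinearIndependent F ![a, b, c] := by
    rw [Fintype.linearIndependent_iff]
    intro s hs i
    rw [Fin.sum_univ_three] at hs
    have k1 := congrArg (f a) hs
    have k2 := congrArg (f b) hs
    have k3 := congrArg (f c) hs
    simp [hab, hac, hbc, hf.symm b a, hf.symm c a, hf.symm c b, ha, hb, hc] at k1 k2 k3
    fin_cases i <;> simp_all
  refine (basisOfLinearIndependentOfCardEqFinrank hli (by simp [h3])).ext fun i => ?_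
  rw [coe_basisOfLinearIndependentOfCardEqFinrank]
  fin_cases i <;> assumption

/-- The third vector of a frame. -/
theorem exists_third (h3 : finrank F U = 3) {a b : U} (ha : f a a ≠ 0) (hb : f b b ≠ 0) (hab : f a b = 0) :
    ∃ c, f c c ≠ 0 ∧ f a c = 0 ∧ f b c = 0 := by
  obtain ⟨c, hc, hcP⟩ := exists_aniso_perp hf (Submodule.span F ({a, b} : Set U)) (fun x hx hxP => by
    obtain ⟨s, t, rfl⟩ := Submodule.mem_span_pair.1 hx
    have k1 := hxP a (Submodule.subset_span (Set.mem_insert _ _))
    have k2 := hxP b (Submodule.subset_span (Set.mem_insert_of_mem _ rfl))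
    simp [hab, hf.symm a b, ha, hb] at k1 k2
    simp [k1, k2]) (by
    classical
    have e' : ({a, b} : Set U) = (({a, b} : Finset U) : Set U) := by simp
    rw [e', h3]
    exact lt_of_le_of_lt ((finrank_span_finset_le_card _).trans Finset.card_le_two) (by omega))
  exact ⟨c, hc, hcP a (Submodule.subset_span (Set.mem_insert _ _)),
    hcP b (Submodule.subset_span (Set.mem_insert_of_mem _ rfl))⟩

/-- The product of two orthogonal half-turns. -/
theorem hh_comp (h3 : finrank F U = 3) {a b c : U} (ha : f a a ≠ 0) (hb : f b b ≠ 0) (hc : f c c ≠ 0)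
    (hab : f a b = 0) (hac : f a c = 0) (hbc : f b c = 0) : hh f a ∘ₗ hh f b = hh f c := by
  refine frame_ext hf h3 ha hb hc hab hac hbc ?_ ?_ ?_ <;>
    simp [hh_self hf ha, hh_self hf hb, hh_self hf hc, hh_perp hf hab, hh_perp hf hac, hh_perp hf hbc,
      hh_perp hf ((hf.symm a b).trans hab), hh_perp hf ((hf.symm a c).trans hac),
      hh_perp hf ((hf.symm b c).trans hbc)]

/-- Three orthogonal reflections. -/
theorem refl_three (h3 : finrank F U = 3) {a b c : U} (ha : f a a ≠ 0) (hb : f b b ≠ 0) (hc : f c c ≠ 0)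
    (hab : f a b = 0) (hac : f a c = 0) (hbc : f b c = 0) :
    refl f a ∘ₗ refl f b = hh f c := by
  rw [show hh f c = hh f a ∘ₗ hh f b from (hh_comp hf h3 ha hb hc hab hac hbc).symm]
  refine LinearMap.ext fun x => ?_
  simp [hh]

/-- Commuting half-turns have equal or orthogonal axes. -/
theorem of_hh_comm {a c : U} (ha : f a a ≠ 0) (hc : f c c ≠ 0)
    (h : ∀ x, hh f a (hh f c x) = hh f c (hh f a x)) : (∃ t : F, t ≠ 0 ∧ a = t • c) ∨ f a c = 0 := by
  by_cases hac : f a c = 0
  · exact Or.inr hac
  refine Or.inl ?_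
  have h1 := h a
  rw [hh_self hf ha, hh_apply f a (hh f c a)] at h1
  set k := 2 / f c c * f c a
  have hk : k ≠ 0 := mul_ne_zero (div_ne_zero hf.two hc) (by rwa [hf.symm])
  have h2 : hh f c a = k • c - a := hh_apply f c a
  rw [h2] at h1
  set μ := 2 / f a a * f a (k • c - a)
  have h4 : (2 * k) • c = (μ + 2) • a := by linear_combination (norm := module) -h1
  have hμ : μ + 2 ≠ 0 := fun e => by
    rw [e, zero_smul, smul_eq_zero] at h4
    rcases h4 with h4 | h4
    · exact mul_ne_zero hf.two hk h4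
    · exact hc (by simp [h4])
  exact ⟨(μ + 2)⁻¹ * (2 * k), mul_ne_zero (inv_ne_zero hμ) (mul_ne_zero hf.two hk), by
    rw [← smul_smul, h4, inv_smul_smul₀ hμ]⟩

/-- Commuting half-turns: equal or orthogonal. -/
theorem hh_comm_cases {a c : U} (ha : f a a ≠ 0) (hc : f c c ≠ 0)
    (h : ∀ x, hh f a (hh f c x) = hh f c (hh f a x)) : hh f a = hh f c ∨ f a c = 0 := by
  rcases of_hh_comm hf ha hc h with ⟨t, ht, rfl⟩ | h
  · exact Or.inl (hh_smul hf c ht)
  · exact Or.inr h

theorem hh_inj_perp {a c : U} (ha : f a a ≠ 0) (hac : f a c = 0) : hh f a ≠ hh f c := fun e => by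
  have h1 := LinearMap.congr_fun e a
  rw [hh_self hf ha, hh_perp hf ((hf.symm a c).trans hac)] at h1
  have h2 : (2 : F) • a = 0 := by rw [two_smul]; nth_rw 1 [h1]; exact neg_add_cancel a
  exact ha (by simp [(smul_eq_zero.1 h2).resolve_left hf.two])

/-- **The isometric involutions.** -/
theorem invol_cases (h3 : finrank F U = 3) {A : U →ₗ[F] U} (hA : ∀ x y, f (A x) (A y) = f x y)
    (h2 : ∀ x, A (A x) = x) :
    ∃ ε : F, (ε = 1 ∨ ε = -1) ∧ (A = ε • LinearMap.id ∨ ∃ c, f c c ≠ 0 ∧ A = ε • hh f c) := by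
  have two := hf.two
  set P : F → Submodule F U := fun ε => LinearMap.ker (A - ε • LinearMap.id)
  have hmem : ∀ ε x, x ∈ P ε ↔ A x = ε • x := fun ε x => by simp [P, sub_eq_zero]
  have horth : ∀ x y, x ∈ P 1 → y ∈ P (-1) → f x y = 0 := fun x y hx hy => by
    have h := hA x y
    rw [(hmem _ _).1 hx, (hmem _ _).1 hy, one_smul, map_smul, smul_eq_mul] at h
    exact (mul_eq_zero.1 (show (2 : F) * f x y = 0 by linear_combination -h)).resolve_left two
  have hdec : ∀ x, x + A x ∈ P 1 ∧ x - A x ∈ P (-1) := fun x =>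
    ⟨(hmem _ _).2 (by rw [map_add, h2, one_smul, add_comm]),
      (hmem _ _).2 (by rw [map_sub, h2, neg_one_smul, neg_sub])⟩
  have hsup : P 1 ⊔ P (-1) = ⊤ := eq_top_iff.2 fun x _ => by
    rw [show x = (2 : F)⁻¹ • (x + A x) + (2 : F)⁻¹ • (x - A x) by
      rw [← smul_add, add_add_sub_cancel, ← two_smul F, inv_smul_smul₀ two]]
    exact Submodule.add_mem_sup (Submodule.smul_mem _ _ (hdec x).1) (Submodule.smul_mem _ _ (hdec x).2)
  have hinf : P 1 ⊓ P (-1) = ⊥ := eq_bot_iff.2 fun x ⟨h1, h1'⟩ => by
    rw [SetLike.mem_coe, hmem, one_smul] at h1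
    rw [SetLike.mem_coe, hmem, h1, neg_one_smul] at h1'
    have h' : (2 : F) • x = 0 := by rw [two_smul]; nth_rw 1 [h1']; exact neg_add_cancel x
    rw [Submodule.mem_bot]
    exact (smul_eq_zero.1 h').resolve_left two
  have hsum := Submodule.finrank_sup_add_finrank_inf_eq (P 1) (P (-1))
  rw [hsup, hinf, finrank_top, finrank_bot, h3] at hsum
  -- an eigenline
  have key : ∀ ε : F, (ε = 1 ∨ ε = -1) → finrank F (P ε) = 1 → ∃ c, f c c ≠ 0 ∧ A = ε • hh f c := by
    intro ε hε hd
    have hεε : ε * ε = 1 := by rcases hε with rfl | rfl <;> norm_num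
    obtain ⟨⟨c, hcP⟩, hc0, hspan⟩ := finrank_eq_one_iff'.1 hd
    have hc0' : c ≠ 0 := fun e => hc0 (Subtype.ext e)
    have hAc := (hmem _ _).1 hcP
    have hperp : ∀ y, y ∈ P (-ε) → f c y = 0 := fun y hy => by
      rcases hε with rfl | rfl
      · exact horth _ _ hcP hy
      · rw [neg_neg] at hy
        rw [hf.symm]; exact horth _ _ hy hcP
    have hsplit : ∀ x, ∃ t : F, ∃ y ∈ P (-ε), x = t • c + y := fun x => by
      have hx : x ∈ P ε ⊔ P (-ε) := by
        rcases hε with rfl | rfl
        · rw [hsup]; trivial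
        · rw [neg_neg, sup_comm, hsup]; trivial
      obtain ⟨p, hp, y, hy, rfl⟩ := Submodule.mem_sup.1 hx
      obtain ⟨t, ht⟩ := hspan ⟨p, hp⟩
      exact ⟨t, y, hy, by rw [show t • c = p from congrArg Subtype.val ht]⟩
    have hcc : f c c ≠ 0 := fun h0 => hc0' (hf.nd.1 c fun x => by
      obtain ⟨t, y, hy, rfl⟩ := hsplit x
      rw [map_add, map_smul, hperp y hy, h0, smul_zero, add_zero])
    refine ⟨c, hcc, LinearMap.ext fun x => ?_⟩
    obtain ⟨t, y, hy, rfl⟩ := hsplit x
    rw [map_add, map_smul, hAc, (hmem _ _).1 hy, LinearMap.smul_apply, map_add, map_smul, hh_self hf hcc,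
      hh_perp hf (hperp y hy), smul_add, smul_comm, smul_neg, neg_smul]
  have full : ∀ ε : F, finrank F (P ε) = 3 → A = ε • LinearMap.id := fun ε hd => by
    have ht : P ε = ⊤ := Submodule.eq_top_of_finrank_eq (by rw [hd, h3])
    exact LinearMap.ext fun x => (hmem _ _).1 (ht ▸ trivial)
  rcases (by omega : finrank F (P 1) = 1 ∨ finrank F (P (-1)) = 1 ∨ finrank F (P 1) = 3 ∨ finrank F (P (-1)) = 3)
    with h | h | h | h
  · exact ⟨1, Or.inl rfl, Or.inr (key 1 (Or.inl rfl) h)⟩
  · exact ⟨-1, Or.inr rfl, Or.inr (key (-1) (Or.inr rfl) h)⟩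
  · exact ⟨1, Or.inl rfl, Or.inl (full 1 h)⟩
  · exact ⟨-1, Or.inr rfl, Or.inl (full (-1) h)⟩

/-- A unipotent isometry fixing an anisotropic vector is trivial. -/
theorem eq_id_of_unipotent (h3 : finrank F U = 3) {A : U →ₗ[F] U} (hA : ∀ x y, f (A x) (A y) = f x y) {c : U}
    (hc : f c c ≠ 0) (hAc : A c = c) {m : ℕ} (hm : (A - 1 : Module.End F U) ^ m = 0) : A = LinearMap.id := by
  set M : Module.End F U := A - 1
  have hM : ∀ x, M x = A x - x := fun x => rfl
  by_contra hne
  have hM0 : M ≠ 0 := fun e => hne (LinearMap.ext fun x => sub_eq_zero.1 (LinearMap.congr_fun e x))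
  obtain ⟨a, ha1, ha2⟩ : ∃ a, M a ≠ 0 ∧ M (M a) = 0 := by
    by_contra! hcon
    have hinj : ∀ j x, (M ^ (j + 1)) x = 0 → M x = 0 := by
      intro j
      induction j with
      | zero => intro x hx; simpa using hx
      | succ j ih =>
        intro x hx
        rw [pow_succ, Module.End.mul_apply] at hx
        by_contra hx0
        exact hcon x hx0 (ih _ hx)
    obtain ⟨x, hx⟩ : ∃ x, M x ≠ 0 := by
      by_contra! h
      exact hM0 (LinearMap.ext h)
    exact hx (hinj m x (by rw [pow_succ, hm, zero_mul, LinearMap.zero_apply]))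
  set l := M a
  have hAa : A a = a + l := by simp [l, hM]
  have hAl : A l = l := sub_eq_zero.1 ha2
  have hll : f l l = 0 := by
    have h := hA a l
    rw [hAa, hAl, map_add, LinearMap.add_apply] at h
    linear_combination h
  have hal : f a l = 0 := by
    have h := hA a a
    rw [hAa] at h
    simp only [map_add, LinearMap.add_apply, hll, hf.symm a l, add_zero] at h
    exact (mul_eq_zero.1 (show (2 : F) * f a l = 0 by linear_combination h)).resolve_left hf.two
  have hcl : f c l = 0 := by
    have h := hA c a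
    rw [hAc, hAa, map_add] at h
    linear_combination h
  have hl : f l = 0 := by
    by_cases hli : LinearIndependent F ![a, c, l]
    · refine (basisOfLinearIndependentOfCardEqFinrank hli (by simp [h3])).ext fun i => ?_
      rw [coe_basisOfLinearIndependentOfCardEqFinrank, LinearMap.zero_apply]
      fin_cases i <;> simp [hf.symm a l, hf.symm c l, hal, hcl, hll]
    · exfalso
      refine hli (Fintype.linearIndependent_iff.2 fun s hs => ?_)
      rw [Fin.sum_univ_three] at hs
      simp only [Matrix.cons_val_zero, Matrix.cons_val_one, Matrix.cons_val] at hs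
      have k1 := congrArg M hs
      simp only [map_add, map_smul, map_zero, show M c = 0 from sub_eq_zero.2 hAc, ha2, smul_zero, add_zero] at k1
      have e0 : s 0 = 0 := (smul_eq_zero.1 k1).resolve_right ha1
      have k2 := congrArg (f c) hs
      simp [hcl, e0, hc] at k2
      rw [e0, k2] at hs
      simp [ha1] at hs
      intro i
      fin_cases i <;> assumption
  exact ha1 (hf.nd.1 l fun x => by rw [hl, LinearMap.zero_apply])

/-- The trace of a half-turn. -/
theorem trace_hh (h3 : finrank F U = 3) {c : U} (hc : f c c ≠ 0) : LinearMap.trace F U (hh f c) = -1 := by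
  have e : hh f c = ((2 / f c c) • f c).smulRight c - LinearMap.id := LinearMap.ext fun x => by
    simp [hh_apply, smul_smul]
  rw [e, map_sub, LinearMap.trace_id, LinearMap.trace_smulRight, h3, LinearMap.smul_apply, smul_eq_mul,
    div_mul_cancel₀ _ hc]
  norm_num

end CfsgLib.Geo.OrthTensor.Square
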