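/-
A unipotent map of degree at most three centralises every normalised group of order prime to the characteristic.
-/
import Cfsg.Agent.Lib.Core.HHCritical.TheoremBLinear

set_option autoImplicit false
set_option linter.unusedSectionVars false

namespace CfsgLib.Geo.OrthTensor.Square

open Subgroup

variable {F : Type*} [Field F] [Finite F] {V : Type*} [AddCommGroup V] [Module F V] [FiniteDimensional F V]
  [Nontrivial V]

theorem commute_of_coprime {p : ℕ} [hp : Fact p.Prime] [CharP F p] (h5 : 5 ≤ p) (N : Subgroup (V ≃ₗ[F] V))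
    (hN : (Nat.card N).Coprime p) {x : V ≃ₗ[F] V} (hx : x ∈ normalizer (N : Set (V ≃ₗ[F] V)))
    (hx3 : ((x : Module.End F V) - 1) ^ 3 = 0) {n : V ≃ₗ[F] V} (hn : n ∈ N) : x * n = n * x := by
  classical
  have hpp : p.Prime := hp.out
  have hfV : Finite V := Module.finite_of_finite F
  have hfG : Finite (V ≃ₗ[F] V) := DFunLike.finite _
  haveI : CharP (Module.End F V) p :=
    charP_of_injective_algebraMap (RingHom.injective (algebraMap F (Module.End F V))) p
  let ι : (V ≃ₗ[F] V) →* Module.End F V :=
    { toFun := fun h => (h : Module.End F V)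
      map_one' := rfl
      map_mul' := fun _ _ => rfl }
  have hι : Function.Injective ι := fun a b h => LinearEquiv.toLinearMap_injective h
  have hxp : x ^ p = 1 := hι (by
    rw [map_pow, map_one]
    have h2 := sub_pow_char_of_commute (p := p) (x := (x : Module.End F V)) (y := 1) (Commute.one_right _)
    rw [one_pow, pow_eq_zero_of_le (by omega) hx3] at h2
    exact sub_eq_zero.1 h2.symm)
  by_cases hx1 : x = 1
  · rw [hx1, one_mul, mul_one]
  have hox : orderOf x = p := orderOf_eq_prime hxp hx1
  set M : Subgroup (V ≃ₗ[F] V) := N ⊔ zpowers x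
  have hxM : x ∈ M := (le_sup_right : zpowers x ≤ M) (mem_zpowers x)
  have hMn : M ≤ normalizer (N : Set (V ≃ₗ[F] V)) := sup_le le_normalizer (zpowers_le.2 hx)
  set N' : Subgroup M := N.subgroupOf M
  haveI hN'n : N'.Normal := normal_subgroupOf_of_le_normalizer hMn
  have hN'c : Nat.card N' = Nat.card N := Nat.card_congr (subgroupOfEquivOfLe le_sup_left).toEquiv
  set xM : M := ⟨x, hxM⟩
  have hoxM : orderOf xM = p := by rw [← orderOf_injective M.subtype M.subtype_injective xM]; exact hox
  have hgen : N' ⊔ zpowers xM = ⊤ := by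
    refine map_injective M.subtype_injective ?_
    rw [Subgroup.map_sup, subgroupOf_map_subtype, inf_of_le_left le_sup_left, MonoidHom.map_zpowers,
      ← MonoidHom.range_eq_map, range_subtype]
    rfl
  have hidx : N'.index ∣ p := by
    have h1 : (zpowers xM).map (QuotientGroup.mk' N') = ⊤ := by
      rw [← map_top_of_surjective _ (QuotientGroup.mk'_surjective N'), ← hgen, Subgroup.map_sup,
        (Subgroup.map_eq_bot_iff _).2 (QuotientGroup.ker_mk' N').ge, bot_sup_eq]
    rw [index, ← Nat.card_congr (MulEquiv.subgroupCongr h1).toEquiv |>.trans (Nat.card_congr topEquiv.toEquiv),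
      ← hoxM, ← Nat.card_zpowers]
    exact card_map_dvd _ (QuotientGroup.mk' N')
  have hidxp : N'.index = p := (Nat.Prime.eq_one_or_self_of_dvd hpp _ hidx).resolve_left fun h1 => by
    have h2 := orderOf_dvd_natCard (⟨xM, by rw [index_eq_one.1 h1]; trivial⟩ : N')
    rw [← orderOf_injective N'.subtype N'.subtype_injective] at h2
    rw [show N'.subtype ⟨xM, _⟩ = xM from rfl, hoxM, hN'c] at h2
    exact hpp.one_lt.ne' (Nat.Coprime.eq_one_of_dvd (Nat.Coprime.symm hN) h2)
  have hsol : Cfsg.IsPSolvable p M := by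
    refine ⟨2, ![⊥, N', ⊤], rfl, rfl, ?_, ?_, ?_⟩
    · intro i j hij
      fin_cases i <;> fin_cases j <;> simp_all
    · intro i
      fin_cases i
      · exact inferInstanceAs (⊥ : Subgroup M).Normal
      · exact hN'n
      · exact inferInstanceAs (⊤ : Subgroup M).Normal
    · intro i
      fin_cases i
      · right
        show ((⊥ : Subgroup M).relIndex N').Coprime p
        rw [relIndex_bot_left, hN'c]
        exact hN
      · left
        exact ⟨1, by show N'.relIndex ⊤ = p ^ 1; rw [relIndex_top_right, hidxp, pow_one]⟩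
  by_contra hne
  have hOp : Cfsg.pCore p M = ⊥ := by
    by_contra hO
    set O := Cfsg.pCore p M
    have hOP : IsPGroup p O := CfsgLib.Core.isPGroup_pCore p M
    haveI hOn : O.Normal := inferInstanceAs (Cfsg.pCore p M).Normal
    obtain ⟨k, hk⟩ := IsPGroup.iff_card.1 hOP
    have hdis : N' ⊓ O = ⊥ := inf_eq_bot_of_coprime (by rw [hN'c, hk]; exact hN.pow_right k)
    have hcard : Nat.card M = Nat.card N * p := by rw [← hidxp, ← hN'c, card_mul_index]
    obtain ⟨o, ho, ho1⟩ := (ne_bot_iff_exists_ne_one.1 hO : ∃ a : O, a ≠ 1) |>.elim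
      fun a ha => (⟨a, a.2, fun e => ha (Subtype.ext e)⟩ : ∃ o, o ∈ O ∧ o ≠ (1 : M))
    have hk1 : k ≤ 1 := by
      have h1 : p ^ k ∣ Nat.card N * p := hk ▸ hcard ▸ card_subgroup_dvd_card O
      have h2 := (Nat.Coprime.pow_right k hN).symm.dvd_of_dvd_mul_left h1
      exact (Nat.pow_dvd_pow_iff_le_right hpp.one_lt).1 (by rwa [pow_one])
    have hkne : k ≠ 0 := fun e => hO (card_eq_one.1 (by rw [hk, e, pow_zero]))
    have hPc : Nat.card O = p ^ (Nat.card M).factorization p := by
      rw [hk, hcard, Nat.factorization_mul Nat.card_pos.ne' hpp.ne_zero, Finsupp.add_apply,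
        Nat.factorization_eq_zero_of_not_dvd ((Nat.Prime.coprime_iff_not_dvd hpp).1 hN.symm),
        hpp.factorization_self, show k = 1 by omega]
    set S : Sylow p M := Sylow.ofCard O hPc
    obtain ⟨T, hT⟩ := (IsPGroup.of_card (n := 1) (by rw [Nat.card_zpowers, hoxM, pow_one]) :
      IsPGroup p (zpowers xM)).exists_le_sylow
    haveI : Unique (Sylow p M) := Sylow.unique_of_normal S hOn
    have hxO : xM ∈ O := by
      have h1 := hT (mem_zpowers xM)
      rwa [Subsingleton.elim T S] at h1
    refine hne ?_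
    have hc : Commute (⟨n, (le_sup_left : N ≤ M) hn⟩ : M) xM :=
      commute_of_normal_of_disjoint N' O hN'n hOn (disjoint_iff.2 hdis) _ _ hn hxO
    exact (congrArg Subtype.val hc.eq).symm
  obtain ⟨r, hr3, hr⟩ : ∃ r, r ≤ 3 ∧ minpoly F (x : Module.End F V) = (Polynomial.X - 1) ^ r := by
    have hd : minpoly F (x : Module.End F V) ∣ (Polynomial.X - 1) ^ 3 := minpoly.dvd _ _ (by simpa using hx3)
    have hirr : Prime (Polynomial.X - 1 : Polynomial F) := by
      simpa using Polynomial.prime_X_sub_C (1 : F)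
    obtain ⟨r, hr, hass⟩ := (dvd_prime_pow hirr 3).1 hd
    exact ⟨r, hr, Polynomial.eq_of_monic_of_associated (minpoly.monic (Algebra.IsIntegral.isIntegral _))
      ((by simpa using Polynomial.monic_X_sub_C (1 : F) : (Polynomial.X - 1 : Polynomial F).Monic).pow r) hass⟩
  rcases CfsgLib.Core.HHCritical.LinB.theorem_b M hsol hOp x hxM 1 (by rw [hox, pow_one]) r hr with h | ⟨n₀, q, m, h1, h1', -, -, -, -, h⟩
  · rw [pow_one] at h; omega
  · obtain rfl : n₀ = 1 := by omega
    simp at h
    omega

end CfsgLib.Geo.OrthTensor.Square
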