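/-
An overgroup of the stabiliser of the tensor product of two orthogonal spaces of dimension three.
-/
import Cfsg.Agent.Lib.Geo.OrthTensor.Square.Axis
import Cfsg.Agent.Lib.Geo.OrthTensor.Key
import Mathlib.LinearAlgebra.Trace

set_option autoImplicit false
set_option linter.unusedSectionVars false

namespace CfsgLib.Geo.OrthTensor.Square

open CfsgLib.Classical CfsgLib.Classical.Quad CfsgLib.Known.OmegaCriterion Module
open CfsgLib.Geo.MixTensor (SymForm refl refl_apply)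
open QuadraticMap (polar polarBilin)
open LinearMap (BilinForm)

variable {F : Type*} [Field F] {U W V : Type*} [AddCommGroup U] [Module F U] [FiniteDimensional F U]
  [AddCommGroup W] [Module F W] [FiniteDimensional F W] [AddCommGroup V] [Module F V] [FiniteDimensional F V]
  {Q : QuadraticForm F V} {f : BilinForm F U} {g : BilinForm F W} {T : U →ₗ[F] W →ₗ[F] V}
  {K : Subgroup (OQ Q)}

/-- An element acting as a product of two maps. -/
def El (T : U →ₗ[F] W →ₗ[F] V) (k : OQ Q) (A : U →ₗ[F] U) (B : W →ₗ[F] W) : Prop :=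
  ∀ a y, (k : V ≃ₗ[F] V) (T a y) = T (A a) (B y)

theorem El.flip {k : OQ Q} {A : U →ₗ[F] U} {B : W →ₗ[F] W} (h : El T k A B) : El T.flip k B A :=
  fun y a => h a y

theorem El.tens {k : OQ Q} {A : U →ₗ[F] U} {B : W →ₗ[F] W} (h : El T k A B) : Tens T k := ⟨A, B, h⟩

theorem El.mul {k k' : OQ Q} {A A' : U →ₗ[F] U} {B B' : W →ₗ[F] W} (h : El T k A B) (h' : El T k' A' B') :
    El T (k * k') (A ∘ₗ A') (B ∘ₗ B') := fun a y => by
  show (k : V ≃ₗ[F] V) ((k' : V ≃ₗ[F] V) (T a y)) = _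
  rw [h', h]; rfl

theorem El.one : El T (1 : OQ Q) LinearMap.id LinearMap.id := fun _ _ => rfl

theorem El.pow {k : OQ Q} {A : Module.End F U} {B : Module.End F W} (h : El T k A B) :
    ∀ n : ℕ, El T (k ^ n) (A ^ n : Module.End F U) (B ^ n : Module.End F W)
  | 0 => fun a y => rfl
  | n + 1 => by
    rw [pow_succ', pow_succ', pow_succ']
    exact h.mul (El.pow h n)

/-- An overgroup of the products without central elements. -/
structure Sq (Q : QuadraticForm F V) (f : BilinForm F U) (g : BilinForm F W) (T : U →ₗ[F] W →ₗ[F] V)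
    (K : Subgroup (OQ Q)) : Prop extends Tensor Q f g T where
  dimU : finrank F U = 3
  dimW : finrank F W = 3
  q5 : 5 ≤ Nat.card F
  base : ∀ k ∈ commutator (OQ Q), Tens T k → k ∈ K
  sub : K ≤ commutator (OQ Q)
  ncW : ∀ k ∈ K, ∀ (w : W) (φ : U →ₗ[F] U), w ≠ 0 → g w w = 0 →
    (∀ a y, (k : V ≃ₗ[F] V) (T a y) = T a y + g w y • T (φ a) w) → φ = 0
  ncU : ∀ k ∈ K, ∀ (w : U) (φ : W →ₗ[F] W), w ≠ 0 → f w w = 0 →
    (∀ a y, (k : V ≃ₗ[F] V) (T a y) = T a y + f w a • T w (φ y)) → φ = 0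

/-- An axis whose half-turn lies in the group, first factor. -/
def GoodL (T : U →ₗ[F] W →ₗ[F] V) (f : BilinForm F U) (K : Subgroup (OQ Q)) (c : U) : Prop :=
  f c c ≠ 0 ∧ ∃ k ∈ K, El T k (hh f c) LinearMap.id

/-- An axis whose half-turn lies in the group, second factor. -/
def GoodR (T : U →ₗ[F] W →ₗ[F] V) (g : BilinForm F W) (K : Subgroup (OQ Q)) (d : W) : Prop :=
  g d d ≠ 0 ∧ ∃ k ∈ K, El T k LinearMap.id (hh g d)

variable [Finite F]

namespace Sq

variable (O : Sq Q f g T K)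
include O

theorem flip : Sq Q g f T.flip K where
  toTensor := O.toTensor.flip
  dimU := O.dimW
  dimW := O.dimU
  q5 := O.q5
  base := fun k hk h => O.base k hk (by obtain ⟨A, B, e⟩ := h; exact ⟨B, A, fun a y => e y a⟩)
  sub := O.sub
  ncW := fun k hk w φ h1 h2 h => O.ncU k hk w φ h1 h2 fun a y => h y a
  ncU := fun k hk w φ h1 h2 h => O.ncW k hk w φ h1 h2 fun a y => h y a

theorem five_V : 5 ≤ finrank F V := by rw [O.finrank_eq, O.dimU, O.dimW]; omega

theorem finrank_V : finrank F V = 9 := by rw [O.finrank_eq, O.dimU, O.dimW]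

theorem reflTop : reflGroup Q = ⊤ := reflGroup_eq_top O.hQ (Or.inr (by have := O.five_V; omega))

theorem nontriv : Nontrivial U := Module.nontrivial_of_finrank_pos (R := F) (by rw [O.dimU]; omega)

theorem nontrivW : Nontrivial W := Module.nontrivial_of_finrank_pos (R := F) (by rw [O.dimW]; omega)

theorem el_inj {k k' : OQ Q} {A : U →ₗ[F] U} {B : W →ₗ[F] W} (h : El T k A B) (h' : El T k' A B) : k = k' :=
  O.el_ext fun a y => by rw [h, h']

/-- Pairs of reflections of the first factor. -/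
theorem left_pair {p p' : U} (hp : f p p ≠ 0) (hp' : f p' p' ≠ 0) (h : IsSquare (f p p * f p' p')) :
    ∃ k ∈ K, El T k (refl f p ∘ₗ refl f p') LinearMap.id := by
  obtain ⟨k, hk, e⟩ := O.toTensor.flip.pair_mem O.five_V (c := p) (c' := p') ⟨hp, hp', Or.inr h⟩
  have e' : El T k (refl f p ∘ₗ refl f p') LinearMap.id := fun a y => e y a
  exact ⟨k, O.base k hk e'.tens, e'⟩

theorem right_pair {p p' : W} (hp : g p p ≠ 0) (hp' : g p' p' ≠ 0) (h : IsSquare (g p p * g p' p')) :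
    ∃ k ∈ K, El T k LinearMap.id (refl g p ∘ₗ refl g p') := by
  obtain ⟨k, hk, e⟩ := O.flip.left_pair hp hp' h
  exact ⟨k, hk, e.flip⟩

/-- The Siegel maps of the second factor. -/
theorem siegel {w z : W} (hw : g w w = 0) (h : g w z = 0) (hz : g z z ≠ 0) :
    ∃ k ∈ K, El T k LinearMap.id (sv g w z) := by
  have hn := sv_norm O.hg hw h
  obtain ⟨k, hk, e⟩ := O.right_pair hz (hn.symm ▸ hz) ⟨g z z, by rw [hn]⟩
  exact ⟨k, hk, fun a y => by rw [e]; simp [sv_eq_refl O.hg hw h hz]⟩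

/-- Every axis has an orthogonal one whose half-turn lies in the group. -/
theorem exists_goodR_perp {d : W} (hd : g d d ≠ 0) : ∃ r, GoodR T g K r ∧ g d r = 0 := by
  obtain ⟨s, hs, hsP⟩ := O.hg.exists_norm_perp (Submodule.span F {d}) (fun x hx hxP => by
    obtain ⟨t, rfl⟩ := Submodule.mem_span_singleton.1 hx
    have := hxP d (Submodule.mem_span_singleton_self d)
    rw [map_smul, smul_eq_mul, mul_eq_zero] at this
    rw [this.resolve_right hd, zero_smul]) (by
    rw [finrank_span_singleton (fun e => hd (by simp [e])), O.dimW]) hd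
  have hds := hsP d (Submodule.mem_span_singleton_self d)
  obtain ⟨r, hr, hdr, hsr⟩ := exists_third O.hg O.dimW hd (hs ▸ hd) hds
  obtain ⟨k, hk, e⟩ := O.right_pair hd (hs ▸ hd) ⟨g d d, by rw [hs]⟩
  exact ⟨r, ⟨hr, k, hk, by rwa [refl_three O.hg O.dimW hd (hs ▸ hd) hr hds hdr hsr] at e⟩, hdr⟩

theorem exists_goodL_perp {c : U} (hc : f c c ≠ 0) : ∃ r, GoodL T f K r ∧ f c r = 0 := by
  obtain ⟨r, ⟨hr, k, hk, e⟩, h⟩ := O.flip.exists_goodR_perp hc
  exact ⟨r, ⟨hr, k, hk, e.flip⟩, h⟩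

theorem exists_goodL : ∃ c, GoodL T f K c := by
  have := O.nontriv
  obtain ⟨a, ha⟩ := O.hf.exists_aniso
  obtain ⟨r, hr, -⟩ := O.exists_goodL_perp ha
  exact ⟨r, hr⟩

/-- The third axis of two good axes is good. -/
theorem goodR_third {a b c : W} (ha : GoodR T g K a) (hb : GoodR T g K b) (hc : g c c ≠ 0)
    (hab : g a b = 0) (hac : g a c = 0) (hbc : g b c = 0) : GoodR T g K c := by
  obtain ⟨k, hk, e⟩ := ha.2
  obtain ⟨k', hk', e'⟩ := hb.2
  refine ⟨hc, k * k', K.mul_mem hk hk', ?_⟩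
  have := e.mul e'
  rwa [hh_comp O.hg O.dimW ha.1 hb.1 hc hab hac hbc, LinearMap.id_comp] at this

theorem goodR_congr {a b : W} (ha : GoodR T g K a) (hb : g b b ≠ 0) (h : hh g b = hh g a) : GoodR T g K b := by
  obtain ⟨k, hk, e⟩ := ha.2
  exact ⟨hb, k, hk, by rwa [h]⟩

/-- The parity of the extension of a reflection. -/
theorem exists_refl_right {c : W} (hc : g c c ≠ 0) : ∃ k : OQ Q, El T k LinearMap.id (refl g c) ∧ par k = 1 := by
  obtain ⟨K₀, h⟩ := O.refl_invariants O.five_V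
  obtain ⟨k, e, hp, -⟩ := h c hc
  refine ⟨k, fun a y => e a y, ?_⟩
  rw [hp, O.dimU]
  decide

/-- A half-turn of the second factor. -/
theorem exists_hh_right {c : W} (hc : g c c ≠ 0) : ∃ k : OQ Q, El T k LinearMap.id (hh g c) ∧ par k = 0 := by
  obtain ⟨a, ha, hca⟩ := exists_aniso_perp O.hg (Submodule.span F {c}) (fun x hx hxP => by
    obtain ⟨t, rfl⟩ := Submodule.mem_span_singleton.1 hx
    have := hxP c (Submodule.mem_span_singleton_self c)
    rw [map_smul, smul_eq_mul, mul_eq_zero] at this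
    rw [this.resolve_right hc, zero_smul]) (by
    rw [finrank_span_singleton (fun e => hc (by simp [e])), O.dimW]; omega)
  replace hca := hca c (Submodule.mem_span_singleton_self c)
  obtain ⟨b, hb, hcb, hab⟩ := exists_third O.hg O.dimW hc ha hca
  obtain ⟨k, e, hp⟩ := O.exists_refl_right ha
  obtain ⟨k', e', hp'⟩ := O.exists_refl_right hb
  refine ⟨k * k', ?_, ?_⟩
  · have := e.mul e'
    rwa [refl_three O.hg O.dimW ha hb hc hab (by rw [O.hg.symm]; exact hca) (by rw [O.hg.symm]; exact hcb), LinearMap.id_comp] at this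
  · rw [par_mul O.hQ O.reflTop, hp, hp']; decide

/-- The central involution of the isometry group. -/
theorem exists_neg_one : ∃ k : OQ Q, El T k LinearMap.id (-LinearMap.id) ∧ par k = 1 := by
  have := O.nontrivW
  obtain ⟨a, ha⟩ := O.hg.exists_aniso
  obtain ⟨k, e, hp⟩ := O.exists_hh_right ha
  obtain ⟨k', e', hp'⟩ := O.exists_refl_right ha
  refine ⟨k * k', ?_, ?_⟩
  · have := e.mul e'
    rwa [LinearMap.id_comp, show hh g a ∘ₗ refl g a = -LinearMap.id from
      LinearMap.ext fun x => by simp [hh, O.hg.refl_refl ha]] at this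
  · rw [par_mul O.hQ O.reflTop, hp, hp']; decide

/-- The maps which can occur as factors of an involution of the group. -/
theorem par_el {k : OQ Q} {A : U →ₗ[F] U} {B : W →ₗ[F] W} (h : El T k A B)
    (hA : A = LinearMap.id ∨ ∃ c, f c c ≠ 0 ∧ A = hh f c)
    (hB : B = LinearMap.id ∨ ∃ d, g d d ≠ 0 ∧ B = hh g d) : par k = 0 := by
  obtain ⟨k₁, e₁, p₁⟩ : ∃ k₁ : OQ Q, El T k₁ A LinearMap.id ∧ par k₁ = 0 := by
    rcases hA with rfl | ⟨c, hc, rfl⟩
    · exact ⟨1, El.one, par_one O.hQ⟩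
    · obtain ⟨k₁, e, hp⟩ := O.flip.exists_hh_right hc
      exact ⟨k₁, e.flip, hp⟩
  obtain ⟨k₂, e₂, p₂⟩ : ∃ k₂ : OQ Q, El T k₂ LinearMap.id B ∧ par k₂ = 0 := by
    rcases hB with rfl | ⟨d, hd, rfl⟩
    · exact ⟨1, El.one, par_one O.hQ⟩
    · exact O.exists_hh_right hd
  have e := e₁.mul e₂
  rw [LinearMap.comp_id, LinearMap.id_comp] at e
  rw [O.el_inj h e, par_mul O.hQ O.reflTop, p₁, p₂, add_zero]

/-- A similitude normalisation of a product. -/
theorem normal {k : OQ Q} (h : Tens T k) : ∃ (A : U →ₗ[F] U) (B : W →ₗ[F] W),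
    (∀ a b, f (A a) (A b) = f a b) ∧ (∀ y z, g (B y) (B z) = g y z) ∧ El T k A B := by
  obtain ⟨A, B, e⟩ := h
  have hAB : ∀ a b y z, f (A a) (A b) * g (B y) (B z) = f a b * g y z := fun a b y z => by
    rw [← O.polarT, ← e, ← e, OQ.map_polar, O.polarT]
  have := O.nontriv
  have := O.nontrivW
  obtain ⟨a₀, ha₀⟩ := O.hf.exists_aniso
  obtain ⟨y₀, hy₀⟩ := O.hg.exists_aniso
  have h0 := hAB a₀ a₀ y₀ y₀
  set l := g y₀ y₀ / g (B y₀) (B y₀)
  have hB0 : g (B y₀) (B y₀) ≠ 0 := fun e0 => mul_ne_zero ha₀ hy₀ (by rw [← h0, e0, mul_zero])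
  have hl : l ≠ 0 := div_ne_zero hy₀ hB0
  have hA : ∀ a b, f (A a) (A b) = l * f a b := fun a b => by
    have := hAB a b y₀ y₀
    simp only [l]
    field_simp
    linear_combination this
  have hB : ∀ y z, g (B y) (B z) = l⁻¹ * g y z := fun y z => mul_left_cancel₀ (mul_ne_zero hl ha₀) (by
    have := hAB a₀ a₀ y z
    rw [hA] at this
    rw [this]
    field_simp)
  obtain ⟨r, hr⟩ : IsSquare l := isSquare_of_sim O.hf.nd hl hA (by rw [O.dimU]; decide)
  have hr0 : r ≠ 0 := fun e0 => hl (by rw [hr, e0, mul_zero])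
  refine ⟨r⁻¹ • A, r • B, fun a b => ?_, fun y z => ?_, fun a y => ?_⟩
  · simp only [LinearMap.smul_apply, map_smul, hA, smul_eq_mul, hr]
    field_simp
  · simp only [LinearMap.smul_apply, map_smul, hB, smul_eq_mul, hr]
    field_simp
  · simp [e a y, hr0, smul_smul]

/-- Two descriptions of one product. -/
theorem el_unique {k : OQ Q} {A A' : U →ₗ[F] U} {B B' : W →ₗ[F] W} (h : El T k A B) (h' : El T k A' B')
    (hA' : ∀ a b, f (A' a) (A' b) = f a b) (hB : ∀ y z, g (B y) (B z) = g y z) :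
    ∃ t : F, (∀ a, A a = t • A' a) ∧ ∀ y, B' y = t • B y := by
  have := O.nontriv
  have := O.nontrivW
  obtain ⟨y₀, hy₀⟩ := O.hg.exists_aniso
  obtain ⟨a₀, ha₀⟩ := O.hf.exists_aniso
  have hBy : B y₀ ≠ 0 := fun e => hy₀ (by rw [← hB, e, map_zero])
  obtain ⟨z, hz⟩ := O.exists_partner hBy
  have hA : ∀ a, A a = g z (B' y₀) • A' a := fun a => by
    have e := congrArg (O.C z) ((h a y₀).symm.trans (h' a y₀))
    rwa [O.C_T, O.C_T, hz, one_smul] at e
  refine ⟨g z (B' y₀), hA, fun y => O.T_injective' (a := A' a₀) (fun e => ha₀ (by rw [← hA', e, map_zero])) ?_⟩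
  rw [← h', h, hA, map_smul, LinearMap.smul_apply, map_smul]

/-- The power of a product which is the identity. -/
theorem pow_one_el {k : OQ Q} {A : Module.End F U} {B : Module.End F W} (hA : ∀ a b, f (A a) (A b) = f a b)
    (hB : ∀ y z, g (B y) (B z) = g y z) (e : El T k A B) {n : ℕ} (hk : k ^ n = 1) :
    ∃ c : F, c * c = 1 ∧ A ^ n = c • 1 ∧ B ^ n = c • 1 := by
  have hAn : ∀ n : ℕ, ∀ a b, f ((A ^ n : Module.End F U) a) ((A ^ n : Module.End F U) b) = f a b := by
    intro n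
    induction n with
    | zero => intro a b; simp
    | succ n ih => intro a b; rw [pow_succ', Module.End.mul_apply, Module.End.mul_apply, hA, ih]
  have h1 : El T (1 : OQ Q) (A ^ n : Module.End F U) (B ^ n : Module.End F W) := hk ▸ e.pow n
  obtain ⟨t, ht1, ht2⟩ := O.el_unique (El.one (T := T)) h1 (hAn n) (fun _ _ => rfl)
  have := O.nontriv
  obtain ⟨a₀, ha₀⟩ := O.hf.exists_aniso
  have h2 := hAn n a₀ a₀
  have htt : t * t = 1 := by
    have h3 := congrArg (fun v => f v v) (ht1 a₀)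
    simp only [LinearMap.id_apply, map_smul, LinearMap.smul_apply, smul_eq_mul, h2] at h3
    exact (mul_eq_right₀ ha₀).1 (by linear_combination -h3)
  refine ⟨t, htt, LinearMap.ext fun a => ?_, LinearMap.ext fun y => by simpa using ht2 y⟩
  have h3 := congrArg (t • ·) (ht1 a)
  simp only [LinearMap.id_apply, smul_smul, htt, one_smul] at h3
  simpa using h3.symm

/-- **The involutions of the group which are products.** -/
theorem invol {k : OQ Q} (hk : k ∈ K) (h : Tens T k) (h2 : k * k = 1) (h1 : k ≠ 1) :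
    (∃ c, GoodL T f K c ∧ El T k (hh f c) LinearMap.id) ∨ (∃ d, GoodR T g K d ∧ El T k LinearMap.id (hh g d)) ∨
      ∃ c d, f c c ≠ 0 ∧ g d d ≠ 0 ∧ El T k (hh f c) (hh g d) := by
  obtain ⟨A, B, hA, hB, e⟩ := O.normal h
  obtain ⟨c, hc, hA2, hB2⟩ := O.pow_one_el (A := A) (B := B) hA hB e (n := 2) (by rw [pow_two, h2])
  have hA2' : ∀ a, A (A a) = c • a := fun a => by simpa [pow_two] using LinearMap.congr_fun hA2 a
  have hB2' : ∀ y, B (B y) = c • y := fun y => by simpa [pow_two] using LinearMap.congr_fun hB2 y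
  rcases mul_self_eq_one_iff.1 hc with rfl | rfl
  swap
  · exfalso
    have k1 : LinearMap.det A * LinearMap.det A = 1 := by
      simpa using det_sq_of_sim (l := (1 : F)) O.hf.nd fun x y => by rw [hA, one_mul]
    have k2 : LinearMap.det A * LinearMap.det A = (-1 : F) ^ finrank F U := by
      rw [← LinearMap.det_comp, show A ∘ₗ A = (-1 : F) • LinearMap.id from LinearMap.ext fun a => by simp [hA2'],
        LinearMap.det_smul, LinearMap.det_id, mul_one]
    rw [k1, O.dimU] at k2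
    exact O.two (by linear_combination k2)
  obtain ⟨ε, hε, hA'⟩ := invol_cases O.hf O.dimU hA fun a => by rw [hA2', one_smul]
  obtain ⟨δ, hδ, hB'⟩ := invol_cases O.hg O.dimW hB fun y => by rw [hB2', one_smul]
  obtain ⟨A₀, hA₀, rfl⟩ : ∃ A₀, (A₀ = LinearMap.id ∨ ∃ c, f c c ≠ 0 ∧ A₀ = hh f c) ∧ A = ε • A₀ := by
    rcases hA' with e | ⟨c, hc, e⟩
    · exact ⟨_, Or.inl rfl, e⟩
    · exact ⟨_, Or.inr ⟨c, hc, rfl⟩, e⟩
  obtain ⟨B₀, hB₀, rfl⟩ : ∃ B₀, (B₀ = LinearMap.id ∨ ∃ d, g d d ≠ 0 ∧ B₀ = hh g d) ∧ B = δ • B₀ := by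
    rcases hB' with e | ⟨d, hd, e⟩
    · exact ⟨_, Or.inl rfl, e⟩
    · exact ⟨_, Or.inr ⟨d, hd, rfl⟩, e⟩
  have hpk : par k = 0 := ((mem_commutator_iff O.hQ O.reflTop k).1 (O.sub hk)).1
  have e' : El T k A₀ B₀ := by
    have e1 : ∀ a y, (k : V ≃ₗ[F] V) (T a y) = (ε * δ) • T (A₀ a) (B₀ y) := fun a y => by
      rw [e]; simp [smul_smul, mul_comm]
    rcases (by rcases hε with rfl | rfl <;> rcases hδ with rfl | rfl <;> norm_num : ε * δ = 1 ∨ ε * δ = -1) with
      h | h
    · intro a y; rw [e1, h, one_smul]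
    · exfalso
      obtain ⟨m, em, pm⟩ := O.exists_neg_one
      have e2 : El T (m * k) A₀ B₀ := fun a y => by
        show (m : V ≃ₗ[F] V) ((k : V ≃ₗ[F] V) (T a y)) = _
        rw [e1, h, map_smul, em]
        simp
      have h3 := O.par_el e2 hA₀ hB₀
      rw [par_mul O.hQ O.reflTop, pm, hpk, add_zero] at h3
      exact one_ne_zero h3
  rcases hA₀ with rfl | ⟨c, hc, rfl⟩ <;> rcases hB₀ with rfl | ⟨d, hd, rfl⟩
  · exact absurd (O.el_inj e' El.one) h1
  · exact Or.inr (Or.inl ⟨d, ⟨hd, k, hk, e'⟩, e'⟩)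
  · exact Or.inl ⟨c, ⟨hc, k, hk, e'⟩, e'⟩
  · exact Or.inr (Or.inr ⟨c, d, hc, hd, e'⟩)

/-- The trace of a product. -/
theorem trace_el {k : OQ Q} {A : U →ₗ[F] U} {B : W →ₗ[F] W} (h : El T k A B) :
    LinearMap.trace F V ((k : V ≃ₗ[F] V) : V →ₗ[F] V) = LinearMap.trace F U A * LinearMap.trace F W B := by
  set φ : TensorProduct F U W →ₗ[F] V := TensorProduct.lift T
  have hsurj : Function.Surjective φ := by
    rw [← LinearMap.range_eq_top, eq_top_iff, ← O.span, Submodule.span_le]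
    rintro _ ⟨⟨a, y⟩, rfl⟩
    exact ⟨a ⊗ₜ y, by simp [φ]⟩
  have hbij : Function.Bijective φ := ⟨(LinearMap.injective_iff_surjective_of_finrank_eq_finrank (by
    rw [Module.finrank_tensorProduct, O.finrank_eq])).2 hsurj, hsurj⟩
  set e := LinearEquiv.ofBijective φ hbij
  have hc : ((k : V ≃ₗ[F] V) : V →ₗ[F] V) = e.conj (TensorProduct.map A B) := by
    refine LinearMap.ext fun v => ?_
    obtain ⟨x, rfl⟩ := e.surjective v
    rw [LinearEquiv.conj_apply, LinearMap.comp_apply, LinearMap.comp_apply, LinearEquiv.coe_coe,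
      LinearEquiv.coe_coe, LinearEquiv.coe_coe, e.symm_apply_apply]
    induction x using TensorProduct.induction_on with
    | zero => simp
    | tmul a y => simp [e, φ, h a y]
    | add x y hx hy => simp only [map_add, hx, hy]
  rw [hc, LinearMap.trace_conj', LinearMap.trace_tensorProduct']

end Sq

end CfsgLib.Geo.OrthTensor.Square
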