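/-
The centraliser of a half-turn of one factor consists of products.
-/
import Cfsg.Agent.Lib.Geo.OrthTensor.Square.Setup
import Cfsg.Agent.Lib.Geo.OrthTensor.Square.Coprime
import Cfsg.Agent.S0058

set_option autoImplicit false
set_option linter.unusedSectionVars false

namespace CfsgLib.Geo.OrthTensor.Square

open CfsgLib.Classical CfsgLib.Classical.Quad CfsgLib.Known.OmegaCriterion Module
open CfsgLib.Geo.MixTensor (SymForm refl refl_apply)
open QuadraticMap (polar polarBilin)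
open LinearMap (BilinForm)

variable {F : Type*} [Field F] {U W V : Type*} [AddCommGroup U] [Module F U] [FiniteDimensional F U]
  [AddCommGroup W] [Module F W] [FiniteDimensional F W] [AddCommGroup V] [Module F V] [FiniteDimensional F V]
  {Q : QuadraticForm F V} {f : BilinForm F U} {g : BilinForm F W} {T : U →ₗ[F] W →ₗ[F] V}
  {K : Subgroup (OQ Q)} [Finite F]

section Key

variable {U' W' : Type*} [AddCommGroup U'] [Module F U'] [FiniteDimensional F U']
  [AddCommGroup W'] [Module F W'] [FiniteDimensional F W'] {f' : BilinForm F U'} {g' : BilinForm F W'}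
  {T' : U' →ₗ[F] W' →ₗ[F] V}

/-- A map carrying the Siegel maps of one tensor structure into a factor of another respects the structures. -/
theorem Sq.key (O : Sq Q f g T K) (D : Tensor Q f' g' T') (hU' : finrank F U' = 3) {x : OQ Q}
    (h : ∀ (w z : W), g w w = 0 → g w z = 0 → g z z ≠ 0 → ∀ k ∈ K, El T k LinearMap.id (sv g w z) →
      ∃ B', El T' (x * k * x⁻¹) LinearMap.id B') :
    ∃ (A : U →ₗ[F] U') (B : W →ₗ[F] W'), ∀ a y, (x : V ≃ₗ[F] V) (T a y) = T' (A a) (B y) := by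
  have hg := O.hg
  have h2 := O.two
  obtain ⟨w, -, hw0, hw⟩ := hg.exists_isotropic (P := (⊤ : Submodule F W)) (by rw [finrank_top, O.dimW])
  obtain ⟨u, hu, hwu⟩ := exists_iso_partner hg hw hw0
  obtain ⟨z, hz, hzP⟩ := exists_aniso_perp hg _ (pair_nondeg hg hw hu hwu)
    (by have := span_pair_le (F := F) w u; rw [O.dimW]; omega)
  have hwz : g w z = 0 := hzP w (Submodule.subset_span (Set.mem_insert _ _))
  have huz : g u z = 0 := hzP u (Submodule.subset_span (Set.mem_insert_of_mem _ rfl))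
  have hxk : ∀ (k : OQ Q) (v : V), ((x * k * x⁻¹ : OQ Q) : V ≃ₗ[F] V) ((x : V ≃ₗ[F] V) v) =
      (x : V ≃ₗ[F] V) ((k : V ≃ₗ[F] V) v) := fun k v => by
    show (x : V ≃ₗ[F] V) ((k : V ≃ₗ[F] V) ((x : V ≃ₗ[F] V).symm ((x : V ≃ₗ[F] V) v))) = _
    rw [LinearEquiv.symm_apply_apply]
  obtain ⟨k, hk, ek⟩ := O.siegel hw hwz hz
  obtain ⟨B', eB'⟩ := h w z hw hwz hz k hk ek
  have hsq : ∀ v, (k : V ≃ₗ[F] V) ((k : V ≃ₗ[F] V) v) - (2 : F) • (k : V ≃ₗ[F] V) v + v =
      (-(g z z)) • T (O.C w v) w := fun v => by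
    refine LinearMap.congr_fun (O.hom_ext
      (L := ((k : V ≃ₗ[F] V) : V →ₗ[F] V) ∘ₗ ((k : V ≃ₗ[F] V) : V →ₗ[F] V) -
        (2 : F) • ((k : V ≃ₗ[F] V) : V →ₗ[F] V) + LinearMap.id)
      (L' := (-(g z z)) • (T.flip w ∘ₗ O.C w)) fun a y => ?_) v
    simp only [LinearMap.add_apply, LinearMap.sub_apply, LinearMap.smul_apply, LinearMap.comp_apply,
      LinearEquiv.coe_coe, LinearMap.id_apply, ek _, LinearMap.flip_apply, O.C_T, ← map_sub, ← map_add, ← map_smul,
      smul_smul]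
    rw [map_smul T, LinearMap.smul_apply, ← map_smul]
    congr 1
    simp only [sv_apply, map_add, map_sub, map_smul, smul_eq_mul, hw, hwz, hg.symm w z, mul_zero, add_zero,
      sub_zero]
    match_scalars <;> field_simp <;> ring
  set M : W' →ₗ[F] W' := B' ∘ₗ B' - (2 : F) • B' + LinearMap.id
  have hM : ∀ a r, T' a (M r) = (x : V ≃ₗ[F] V) ((-(g z z)) • T (O.C w ((x : V ≃ₗ[F] V).symm (T' a r))) w) := by
    intro a r
    rw [← hsq, map_add, map_sub, map_smul, ← hxk, ← hxk, LinearEquiv.apply_symm_apply, eB', eB']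
    simp [M]
  obtain ⟨r, hr⟩ : ∃ r, M r ≠ 0 := by
    by_contra! hc
    have h0 : ∀ v, T (O.C w v) w = 0 := by
      intro v
      obtain ⟨v', rfl⟩ := (x : V ≃ₗ[F] V).symm.surjective v
      have hl : (T.flip w ∘ₗ O.C w) ∘ₗ ((x : V ≃ₗ[F] V).symm : V →ₗ[F] V) = 0 := D.hom_ext fun a r => by
        have h1 := hM a r
        rw [hc, map_zero, eq_comm, LinearEquiv.map_eq_zero_iff, smul_eq_zero, neg_eq_zero] at h1
        exact h1.resolve_left hz
      exact LinearMap.congr_fun hl v'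
    have := O.nontriv
    obtain ⟨a₀, ha₀⟩ := exists_ne (0 : U)
    have h1 := h0 (T a₀ u)
    rw [O.C_T, hwu, one_smul] at h1
    exact ha₀ (O.T_eq_zero hw0 h1)
  let A' : U' →ₗ[F] U := (-(g z z)) • (O.C w ∘ₗ ((x : V ≃ₗ[F] V).symm : V →ₗ[F] V) ∘ₗ T'.flip r)
  have hA' : ∀ a, (x : V ≃ₗ[F] V) (T (A' a) w) = T' a (M r) := fun a => by
    rw [hM]; simp [A']
  have hinj : Function.Injective A' := fun p q e => D.T_injective hr (by rw [← hA', ← hA', e])
  have hsurj : Function.Surjective A' :=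
    (LinearMap.injective_iff_surjective_of_finrank_eq_finrank (by rw [hU', O.dimU])).1 hinj
  set eA := LinearEquiv.ofBijective A' ⟨hinj, hsurj⟩
  set A : U →ₗ[F] U' := (eA.symm : U →ₗ[F] U')
  have hA : ∀ a, (x : V ≃ₗ[F] V) (T a w) = T' (A a) (M r) := fun a => by
    conv_lhs => rw [← eA.apply_symm_apply a]
    exact hA' (eA.symm a)
  let S₀ : Submodule F W :=
    { carrier := {y | ∃ y', ∀ a, (x : V ≃ₗ[F] V) (T a y) = T' (A a) y'}
      add_mem' := fun {p q} ⟨p', hp⟩ ⟨q', hq⟩ => ⟨p' + q', fun a => by simp [hp, hq]⟩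
      zero_mem' := ⟨0, fun a => by simp⟩
      smul_mem' := fun c p ⟨p', hp⟩ => ⟨c • p', fun a => by simp [hp]⟩ }
  have hstab : ∀ (v v' : W), g v v = 0 → g v v' = 0 → g v' v' ≠ 0 → ∀ y ∈ S₀, sv g v v' y ∈ S₀ := by
    rintro v v' hv hvv hv' y ⟨y', hy⟩
    obtain ⟨k, hk, ek⟩ := O.siegel hv hvv hv'
    obtain ⟨B'', e''⟩ := h v v' hv hvv hv' k hk ek
    refine ⟨B'' y', fun a => ?_⟩
    rw [← LinearMap.id_apply (R := F) a, ← ek, LinearMap.id_apply, ← hxk, hy, e'', LinearMap.id_apply]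
  have hwS : w ∈ S₀ := ⟨M r, hA⟩
  have h1 := hstab u z hu huz hz w hwS
  have h1' := hstab u (-z) hu (by simp [huz]) (by simpa using hz) w hwS
  rw [sv_apply, hg.symm w u, hwu] at h1 h1'
  simp only [hg.symm w z, hwz, zero_smul, sub_zero, one_smul, mul_one, map_neg, LinearMap.neg_apply, neg_neg,
    neg_zero] at h1 h1'
  have hzS : z ∈ S₀ := by
    have h3 := S₀.smul_mem (2 : F)⁻¹ (S₀.sub_mem h1 h1')
    convert h3 using 1
    match_scalars <;> field_simp <;> ring
  have huS : u ∈ S₀ := by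
    have h3 := S₀.smul_mem (2 / g z z) (S₀.sub_mem (S₀.add_mem hwS hzS) h1)
    convert h3 using 1
    match_scalars <;> field_simp <;> ring
  have htop : ∀ y, y ∈ S₀ := fun y => by
    have e : S₀.mkQ = 0 := frame_ext hg O.dimW (a := w + u) (b := w - u) (c := z)
      (by simp [hw, hu, hwu, hg.symm w u]; intro hh; exact h2 (by linear_combination hh))
      (by simp [hw, hu, hwu, hg.symm w u]; intro hh; exact h2 (by linear_combination -hh)) hz
      (by simp [hw, hu, hwu, hg.symm w u]) (by simp [hwz, huz]) (by simp [hwz, huz])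
      (by simpa [Submodule.Quotient.mk_eq_zero, ← Submodule.Quotient.mk_add] using S₀.add_mem hwS huS)
      (by simpa [Submodule.Quotient.mk_eq_zero, ← Submodule.Quotient.mk_sub] using S₀.sub_mem hwS huS)
      (by simpa [Submodule.Quotient.mk_eq_zero] using hzS)
    simpa [Submodule.Quotient.mk_eq_zero] using LinearMap.congr_fun e y
  have := O.nontriv
  obtain ⟨a₀, ha₀⟩ := exists_ne (0 : U)
  have hAa : A a₀ ≠ 0 := fun e => ha₀ (eA.symm.map_eq_zero_iff.1 e)
  obtain ⟨e₀, he₀⟩ := D.flip.exists_partner hAa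
  refine ⟨A, D.flip.C e₀ ∘ₗ ((x : V ≃ₗ[F] V) : V →ₗ[F] V) ∘ₗ T a₀, fun a y => ?_⟩
  obtain ⟨y', hy⟩ := htop y
  have hc : D.flip.C e₀ ((x : V ≃ₗ[F] V) (T a₀ y)) = y' := by
    rw [hy, ← LinearMap.flip_apply T', D.flip.C_T, he₀, one_smul]
  rw [hy]
  exact congrArg (T' (A a)) hc.symm

end Key

namespace Sq

variable (O : Sq Q f g T K)
include O

/-- A radical element of a line in the normal form. -/
def Shape (_O : Sq Q f g T K) (w z : W) (θ φ : U →ₗ[F] U) (k : OQ Q) : Prop :=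
  ∀ a y, (k : V ≃ₗ[F] V) (T a y) = T a y + g w y • (T (θ a) z + T (φ a) w) - g z y • T (θ a) w

theorem Shape.mul {w z : W} (hw : g w w = 0) (hwz : g w z = 0) {θ φ θ' φ' : U →ₗ[F] U} {k k' : OQ Q}
    (h : O.Shape w z θ φ k) (h' : O.Shape w z θ' φ' k') :
    O.Shape w z (θ + θ') (φ + φ' - g z z • (θ ∘ₗ θ')) (k * k') := fun a y => by
  show (k : V ≃ₗ[F] V) ((k' : V ≃ₗ[F] V) (T a y)) = _
  rw [h', map_sub, map_add, map_smul, map_smul, map_add, h, h, h, h]
  simp only [hw, hwz, O.hg.symm w z, zero_smul, add_zero, sub_zero, map_add, map_sub, map_smul,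
    LinearMap.add_apply, LinearMap.sub_apply, LinearMap.smul_apply, LinearMap.comp_apply, zero_sub, smul_add,
    smul_smul]
  match_scalars <;> ring

/-- **The middle component of a radical element is a scalar.** -/
theorem shape_scalar {w z u : W} (hw0 : w ≠ 0) (hw : g w w = 0) (hwz : g w z = 0) (hz : g z z ≠ 0)
    (hwu : g w u = 1) (huz : g u z = 0) {θ φ : U →ₗ[F] U} {k : OQ Q} (hk : k ∈ K) (h : O.Shape w z θ φ k) :
    ∃ μ : F, θ = μ • LinearMap.id := by
  have hg := O.hg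
  let S : Set (U →ₗ[F] U) := {θ | ∃ φ, ∃ k ∈ K, O.Shape w z θ φ k}
  have hsmall : Small f := ⟨O.hf, by rw [O.dimU], fun hc => by
    exfalso
    have hF : Nat.card F ≤ 3 := by
      classical
      have : Fintype F := Fintype.ofFinite F
      rw [Nat.card_eq_fintype_card, ← Finset.card_univ]
      refine (Finset.card_le_card (t := {0, 1, -1}) fun x _ => ?_).trans Finset.card_le_three
      rcases hc x with h | h | h <;> simp [h]
    have := O.q5
    omega, fun h4 => by rw [O.dimU] at h4; omega⟩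
  have hconj : ∀ (A A' : U →ₗ[F] U) (m : OQ Q), m ∈ K → (∀ a, A (A' a) = a) → (∀ a, A' (A a) = a) →
      El T m A LinearMap.id → ∀ θ ∈ S, A ∘ₗ θ ∘ₗ A' ∈ S := by
    rintro A A' m hm h1 h1' em θ ⟨φ, k, hk, h⟩
    refine ⟨A ∘ₗ φ ∘ₗ A', m * k * m⁻¹, K.mul_mem (K.mul_mem hm hk) (K.inv_mem hm), fun a y => ?_⟩
    show (m : V ≃ₗ[F] V) ((k : V ≃ₗ[F] V) ((m : V ≃ₗ[F] V).symm (T a y))) = _
    rw [show (m : V ≃ₗ[F] V).symm (T a y) = T (A' a) y by
      rw [LinearEquiv.symm_apply_eq, em, h1]; rfl, h]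
    simp only [map_add, map_sub, map_smul, em _, LinearMap.id_apply, LinearMap.comp_apply, h1]
  have hinv : Inv W f S :=
    { pair := fun d d' hd θ hθ => by
        obtain ⟨m, hm, em⟩ := O.left_pair hd.1 hd.2.1 (hd.2.2.resolve_left (by rw [O.dimW]; decide))
        simpa [LinearMap.comp_assoc] using hconj (refl f d ∘ₗ refl f d') (refl f d' ∘ₗ refl f d) m hm
          (fun a => by simp [O.hf.refl_refl hd.1, O.hf.refl_refl hd.2.1])
          (fun a => by simp [O.hf.refl_refl hd.1, O.hf.refl_refl hd.2.1]) em θ hθ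
      quad := fun c₁ c₂ d₁ d₂ h1 h2 h3 h4 hs θ hθ => by
        obtain ⟨m, hmc, em⟩ := O.toTensor.flip.four_mem O.five_V h1 h2 h3 h4 (Or.inr hs)
        have em' : El T m (refl f c₁ ∘ₗ refl f c₂ ∘ₗ refl f d₁ ∘ₗ refl f d₂) LinearMap.id := fun a y => em y a
        simpa [LinearMap.comp_assoc] using hconj (refl f c₁ ∘ₗ refl f c₂ ∘ₗ refl f d₁ ∘ₗ refl f d₂)
          (refl f d₂ ∘ₗ refl f d₁ ∘ₗ refl f c₂ ∘ₗ refl f c₁) m (O.base m hmc em'.tens)
          (fun a => by simp [O.hf.refl_refl h1, O.hf.refl_refl h2, O.hf.refl_refl h3, O.hf.refl_refl h4])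
          (fun a => by simp [O.hf.refl_refl h1, O.hf.refl_refl h2, O.hf.refl_refl h3, O.hf.refl_refl h4]) em' θ hθ }
  have hsa : ∀ θ ∈ S, ∀ a b, f (θ a) b = f a (θ b) := by
    rintro θ ⟨φ, k, -, h⟩ a b
    have e := OQ.map_polar k (T a z) (T b u)
    rw [h, h] at e
    simp only [hwz, hwu, hw, huz, hg.symm w z, hg.symm u z, zero_smul, one_smul, sub_zero, add_zero, zero_add,
      sub_eq_add_neg, polar_add_left', polar_add_right', QuadraticMap.polar_neg_left, polar_smul_left',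
      O.polarT, mul_zero, neg_zero, mul_one] at e
    exact mul_left_cancel₀ hz (by linear_combination -e)
  have hcomm : ∀ θ ∈ S, ∀ τ ∈ S, ∀ a, θ (τ a) = τ (θ a) := by
    rintro θ ⟨φ, k, hk, h⟩ τ ⟨χ, m, hm, hm'⟩ a
    set Φ : U →ₗ[F] U := (-(g z z)) • (θ ∘ₗ τ - τ ∘ₗ θ)
    have hX := Shape.mul O hw hwz h hm'
    have hY := Shape.mul O hw hwz hm' h
    have h0 := O.ncW _ (K.mul_mem (K.inv_mem (K.mul_mem hm hk)) (K.mul_mem hk hm)) w Φ hw0 hw fun b y => by
      show ((m * k : OQ Q) : V ≃ₗ[F] V).symm (((k * m : OQ Q) : V ≃ₗ[F] V) (T b y)) = _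
      rw [LinearEquiv.symm_apply_eq, map_add, map_smul, hX, hY b y, hY _ w]
      simp only [hw, hg.symm w z, hwz, zero_smul, add_zero, sub_zero, Φ, LinearMap.smul_apply,
        LinearMap.sub_apply, LinearMap.add_apply, LinearMap.comp_apply, map_add, map_sub, map_smul]
      match_scalars <;> ring
    have h1 := LinearMap.congr_fun h0 a
    simp only [Φ, LinearMap.smul_apply, LinearMap.sub_apply, LinearMap.comp_apply, LinearMap.zero_apply,
      smul_eq_zero, neg_eq_zero, hz, false_or, sub_eq_zero] at h1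
    exact h1
  exact scalar_of_comm W hsmall hinv hsa hcomm ⟨φ, k, hk, h⟩

/-- The vectors of the orthogonal frame of a line. -/
theorem expand {w u z : W} (hw : g w w = 0) (hu : g u u = 0) (hwu : g w u = 1) (hwz : g w z = 0)
    (huz : g u z = 0) (hz : g z z ≠ 0) (v : V) :
    v = T (O.C u v) w + T (O.C w v) u + T ((g z z)⁻¹ • O.C z v) z := by
  have hg := O.hg
  have h2 := O.two
  refine LinearMap.congr_fun (O.hom_ext (L := LinearMap.id)
    (L' := T.flip w ∘ₗ O.C u + T.flip u ∘ₗ O.C w + T.flip z ∘ₗ ((g z z)⁻¹ • O.C z)) fun a y => ?_) v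
  simp only [LinearMap.id_apply, LinearMap.add_apply, LinearMap.comp_apply, LinearMap.flip_apply, O.C_T,
    LinearMap.smul_apply, map_smul, smul_smul]
  simp only [← map_smul, ← map_add]
  congr 1
  have e : (LinearMap.id : W →ₗ[F] W) = (g u).smulRight w + (g w).smulRight u +
      ((g z z)⁻¹ • g z).smulRight z := by
    refine frame_ext hg O.dimW (a := w + u) (b := w - u) (c := z) ?_ ?_ hz ?_ ?_ ?_ ?_ ?_ ?_
    · simp [hw, hu, hwu, hg.symm w u]; intro hh; exact h2 (by linear_combination hh)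
    · simp [hw, hu, hwu, hg.symm w u]; intro hh; exact h2 (by linear_combination -hh)
    all_goals simp [hw, hu, hwu, hwz, huz, hz, hg.symm w u, hg.symm w z, hg.symm u z]
    module
  simpa [smul_smul, mul_comm] using LinearMap.congr_fun e y

/-- A `p`-element of the fixer of `c ⊗ W` commuting with a Siegel map is trivial. -/
theorem eq_one_of_commute {p : ℕ} [Fact p.Prime] [CharP F p] {c : U} (hc : f c c ≠ 0) {x : OQ Q} (hx : x ∈ K)
    (hxc : ∀ y, (x : V ≃ₗ[F] V) (T c y) = T c y) {w z : W} (hw0 : w ≠ 0) (hw : g w w = 0) (hwz : g w z = 0)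
    (hz : g z z ≠ 0) {s : OQ Q} (es : El T s LinearMap.id (sv g w z)) (hxs : Commute x s) {j : ℕ}
    (hj : x ^ p ^ j = 1) : x = 1 := by
  have hg := O.hg
  have h2 := O.two
  obtain ⟨u, hu, hwu, huz⟩ : ∃ u, g u u = 0 ∧ g w u = 1 ∧ g u z = 0 := by
    obtain ⟨u, hu, hwu⟩ := exists_iso_partner hg hw hw0
    refine ⟨u - (g u z / g z z) • z - ((g u z / g z z) * (g u z / g z z) * g z z / 2 - g u z * (g u z / g z z)) • w,
      ?_, ?_, ?_⟩
    · simp only [map_sub, map_smul, LinearMap.sub_apply, LinearMap.smul_apply, smul_eq_mul, hu, hwu, hw, hwz,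
        hg.symm w u, hg.symm w z, hg.symm u z]
      field_simp
      ring
    · simp [hwu, hwz, hw]
    · simp only [map_sub, map_smul, LinearMap.sub_apply, LinearMap.smul_apply, smul_eq_mul, hwz]
      field_simp
      ring
  set S : V →ₗ[F] V := ((s : V ≃ₗ[F] V) : V →ₗ[F] V) - LinearMap.id
  have hxS : ∀ v, (x : V ≃ₗ[F] V) (S v) = S ((x : V ≃ₗ[F] V) v) := fun v => by
    have h := LinearEquiv.congr_fun (congrArg Subtype.val hxs.eq) v
    simp only [S, LinearMap.sub_apply, LinearEquiv.coe_coe, LinearMap.id_apply, map_sub]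
    exact congrArg (· - (x : V ≃ₗ[F] V) v) h
  set J : V →ₗ[F] V := S - (2 : F)⁻¹ • (S ∘ₗ S)
  have hS : ∀ a y, S (T a y) = T a (g w y • z - g z y • w - (g z z / 2 * g w y) • w) := fun a y => by
    simp [S, es a y, sv_apply]
    module
  have hSS : ∀ v, S (S v) = (-(g z z)) • T (O.C w v) w := fun v => by
    refine LinearMap.congr_fun (O.hom_ext (L := S ∘ₗ S) (L' := (-(g z z)) • (T.flip w ∘ₗ O.C w))
      fun a y => ?_) v
    simp only [LinearMap.comp_apply, LinearMap.smul_apply, LinearMap.flip_apply, O.C_T]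
    rw [hS, hS]
    simp [hw, hwz, hg.symm w z, smul_smul]
    module
  have hJ : ∀ v, J v = T (O.C w v) z - T (O.C z v) w := fun v => by
    refine LinearMap.congr_fun (O.hom_ext (L := J) (L' := T.flip z ∘ₗ O.C w - T.flip w ∘ₗ O.C z)
      fun a y => ?_) v
    show S (T a y) - (2 : F)⁻¹ • S (S (T a y)) = _
    rw [hSS, hS]
    simp [O.C_T, smul_smul]
    match_scalars <;> field_simp <;> ring
  have hxJ : ∀ v, (x : V ≃ₗ[F] V) (J v) = J ((x : V ≃ₗ[F] V) v) := fun v => by
    show (x : V ≃ₗ[F] V) (S v - (2 : F)⁻¹ • S (S v)) = _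
    rw [map_sub, map_smul, hxS, hxS, hxS]
    rfl
  set A : U →ₗ[F] U := O.C w ∘ₗ ((x : V ≃ₗ[F] V) : V →ₗ[F] V) ∘ₗ T.flip u
  have hAu : ∀ a, A a = O.C w ((x : V ≃ₗ[F] V) (T a u)) := fun a => rfl
  have hxw : ∀ a, (x : V ≃ₗ[F] V) (T a w) = T (A a) w := fun a => by
    have h := hSS ((x : V ≃ₗ[F] V) (T a u))
    rw [← hxS, ← hxS, hSS, O.C_T, hwu, one_smul, map_smul] at h
    rw [hAu]
    exact smul_right_injective V (neg_ne_zero.2 hz) h
  have hA : ∀ a b, f (A a) (A b) = f a b := fun a b => by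
    have h := OQ.map_polar x (T a w) (T b u)
    rw [hxw, O.polarT, hwu, mul_one, ← O.f_C] at h
    exact h
  have hAc : A c = c := O.T_injective hw0 (by rw [← hxw, hxc])
  have hAn : ∀ n a, ((x ^ n : OQ Q) : V ≃ₗ[F] V) (T a w) = T ((A ^ n : Module.End F U) a) w := by
    intro n
    induction n with
    | zero => intro a; rfl
    | succ n ih =>
      intro a
      rw [pow_succ', pow_succ']
      show (x : V ≃ₗ[F] V) (((x ^ n : OQ Q) : V ≃ₗ[F] V) (T a w)) = _
      rw [ih, hxw]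
      rfl
  haveI : CharP (Module.End F U) p := by
    have := O.nontriv
    exact charP_of_injective_algebraMap (algebraMap F (Module.End F U)).injective p
  have hA1 : A = LinearMap.id := eq_id_of_unipotent O.hf O.dimU hA hc hAc (m := p ^ j) (by
    have h := hAn (p ^ j)
    rw [hj] at h
    rw [sub_pow_char_pow_of_commute p j (Commute.one_right _), one_pow, sub_eq_zero]
    exact LinearMap.ext fun a => (O.T_injective hw0 (h a)).symm)
  set θ : U →ₗ[F] U := (g z z)⁻¹ • (O.C z ∘ₗ ((x : V ≃ₗ[F] V) : V →ₗ[F] V) ∘ₗ T.flip u)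
  set φ : U →ₗ[F] U := O.C u ∘ₗ ((x : V ≃ₗ[F] V) : V →ₗ[F] V) ∘ₗ T.flip u
  have hxu : ∀ a, (x : V ≃ₗ[F] V) (T a u) = T a u + T (θ a) z + T (φ a) w := fun a => by
    conv_lhs => rw [O.expand hw hu hwu hwz huz hz ((x : V ≃ₗ[F] V) (T a u))]
    rw [← hAu, hA1]
    simp [θ, φ]
    abel
  have hxz : ∀ a, (x : V ≃ₗ[F] V) (T a z) = T a z - g z z • T (θ a) w := fun a => by
    have h := hxJ (T a u)
    rw [hJ, hJ, O.C_T, O.C_T, hwu, hg.symm u z, huz, one_smul, zero_smul, map_zero, LinearMap.zero_apply,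
      sub_zero] at h
    rw [h, ← hAu, hA1]
    simp [θ, smul_smul, hz]
  have hsh : O.Shape w z θ φ x := fun a y => by
    have e := O.expand hw hu hwu hwz huz hz (T a y)
    simp only [O.C_T] at e
    rw [e]
    simp only [map_add, map_smul, LinearMap.smul_apply, hxw, hxu, hxz, hA1, LinearMap.id_apply]
    simp only [hw, hwu, hwz, huz, hg.symm w u, hg.symm w z, hg.symm u z, mul_zero, mul_one, add_zero, zero_add,
      smul_smul, smul_add, smul_sub]
    match_scalars <;> field_simp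
  obtain ⟨μ, hμ⟩ := O.shape_scalar hw0 hw hwz hz hwu huz hx hsh
  have hμ0 : μ = 0 := by
    have h := hxz c
    rw [hxc, eq_sub_iff_add_eq, add_eq_left, smul_eq_zero] at h
    have h' := O.T_eq_zero hw0 (h.resolve_left hz)
    rw [hμ, LinearMap.smul_apply, LinearMap.id_apply, smul_eq_zero] at h'
    exact h'.resolve_right fun e => hc (by simp [e])
  have hφ : φ = 0 := O.ncW x hx w φ hw0 hw fun a y => by
    rw [hsh, hμ, hμ0]; simp
  exact O.el_ext fun a y => by rw [hsh, hμ, hμ0, hφ]; simp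

end Sq

end CfsgLib.Geo.OrthTensor.Square
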