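/-
An element of the overgroup commuting with a half-turn of one factor is a product.
-/
import Cfsg.Agent.Lib.Geo.OrthTensor.Square.Local

set_option autoImplicit false
set_option linter.unusedSectionVars false

namespace CfsgLib.Geo.OrthTensor.Square

open CfsgLib.Classical CfsgLib.Classical.Quad CfsgLib.Known.OmegaCriterion Module Subgroup
open CfsgLib.Geo.MixTensor (SymForm refl refl_apply)
open QuadraticMap (polar polarBilin)
open LinearMap (BilinForm)

variable {F : Type*} [Field F] {U W V : Type*} [AddCommGroup U] [Module F U] [FiniteDimensional F U]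
  [AddCommGroup W] [Module F W] [FiniteDimensional F W] [AddCommGroup V] [Module F V] [FiniteDimensional F V]
  {Q : QuadraticForm F V} {f : BilinForm F U} {g : BilinForm F W} {T : U →ₗ[F] W →ₗ[F] V}
  {K : Subgroup (OQ Q)} [Finite F]

namespace Sq

variable (O : Sq Q f g T K)
include O

theorem sv_add {w z z' : W} (hw : g w w = 0) (hz : g w z = 0) (hz' : g w z' = 0) :
    sv g w z ∘ₗ sv g w z' = sv g w (z + z') := by
  have := O.two
  refine LinearMap.ext fun y => ?_
  simp only [LinearMap.comp_apply, sv_apply, map_add, map_sub, map_smul, LinearMap.add_apply, smul_eq_mul, hw,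
    hz', O.hg.symm w z, O.hg.symm w z', hz, O.hg.symm z z', mul_zero, sub_zero, add_zero]
  match_scalars <;> field_simp <;> ring

/-- The Siegel maps of one line and one direction have a common centraliser. -/
theorem commute_scale {w z : W} (hw : g w w = 0) (hwz : g w z = 0) {x m m' : OQ Q} {t t' : F} (ht : t ≠ 0)
    (em : El T m LinearMap.id (sv g w (t • z))) (em' : El T m' LinearMap.id (sv g w (t' • z)))
    (h : Commute x m) : Commute x m' := by
  have h2 := O.two
  have hg := O.hg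
  set S : V →ₗ[F] V := ((m : V ≃ₗ[F] V) : V →ₗ[F] V) - LinearMap.id
  set α : F := t' / t
  set β : F := (α * α - α) / 2
  have hm' : ∀ v, (m' : V ≃ₗ[F] V) v = v + α • S v + β • S (S v) := fun v => by
    refine LinearMap.congr_fun (O.hom_ext (L := ((m' : V ≃ₗ[F] V) : V →ₗ[F] V))
      (L' := LinearMap.id + α • S + β • (S ∘ₗ S)) fun a y => ?_) v
    simp only [S, LinearMap.add_apply, LinearMap.smul_apply, LinearMap.comp_apply, LinearMap.sub_apply,
      LinearEquiv.coe_coe, LinearMap.id_apply, em _, em' _, map_sub, ← map_smul]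
    simp only [sv_apply, map_add, map_sub, map_smul, LinearMap.add_apply, LinearMap.sub_apply,
      LinearMap.smul_apply, smul_eq_mul, hw, hwz, hg.symm w z, α, β]
    match_scalars <;> field_simp <;> ring
  have hxS : ∀ v, (x : V ≃ₗ[F] V) (S v) = S ((x : V ≃ₗ[F] V) v) := fun v => by
    have h' := LinearEquiv.congr_fun (congrArg Subtype.val h.eq) v
    simp only [S, LinearMap.sub_apply, LinearEquiv.coe_coe, LinearMap.id_apply, map_sub]
    exact congrArg (· - (x : V ≃ₗ[F] V) v) h'
  refine Subtype.ext (LinearEquiv.ext fun v => ?_)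
  show (x : V ≃ₗ[F] V) ((m' : V ≃ₗ[F] V) v) = (m' : V ≃ₗ[F] V) ((x : V ≃ₗ[F] V) v)
  rw [hm', hm', map_add, map_add, map_smul, map_smul, hxS, hxS, hxS]

/-- **An element fixing `c ⊗ W` is a product.** -/
theorem fixer_tens {c : U} (hc : f c c ≠ 0) {x : OQ Q} (hx : x ∈ K)
    (hxc : ∀ y, (x : V ≃ₗ[F] V) (T c y) = T c y) : Tens T x := by
  classical
  have hg := O.hg
  haveI : Finite (OQ Q) := finite_OQ Q
  haveI : Nontrivial V := Module.nontrivial_of_finrank_pos (R := F) (by rw [O.finrank_V]; omega)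
  set p := ringChar F
  haveI : CharP F p := ringChar.charP F
  haveI hpf : Fact p.Prime := ⟨CharP.char_is_prime F p⟩
  let N : Subgroup (OQ Q) :=
    { carrier := {n | n ∈ K ∧ ∀ y, (n : V ≃ₗ[F] V) (T c y) = T c y}
      one_mem' := ⟨K.one_mem, fun _ => rfl⟩
      mul_mem' := fun {a b} ha hb => ⟨K.mul_mem ha.1 hb.1, fun y => by
        show (a : V ≃ₗ[F] V) ((b : V ≃ₗ[F] V) (T c y)) = _
        rw [hb.2, ha.2]⟩
      inv_mem' := fun {a} ha => ⟨K.inv_mem ha.1, fun y => by
        show (a : V ≃ₗ[F] V).symm (T c y) = _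
        rw [LinearEquiv.symm_apply_eq, ha.2]⟩ }
  have hxN : x ∈ N := ⟨hx, hxc⟩
  have hnorm : ∀ (k : OQ Q) (B : W →ₗ[F] W), k ∈ K → El T k LinearMap.id B → k ∈ normalizer (N : Set (OQ Q)) := by
    intro k B hk ek
    refine Subgroup.mem_normalizer_fintype ?_
    rintro n ⟨hn, hn'⟩
    refine ⟨K.mul_mem (K.mul_mem hk hn) (K.inv_mem hk), fun y => ?_⟩
    obtain ⟨v, hv⟩ : ∃ v, B v = y := by
      refine LinearMap.injective_iff_surjective.1 (fun p' q' e => ?_) y
      obtain ⟨a, ha⟩ := exists_ne (0 : V)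
      have := O.nontriv
      obtain ⟨a₀, ha₀⟩ := exists_ne (0 : U)
      exact O.T_injective' ha₀ ((k : V ≃ₗ[F] V).injective (by rw [ek, ek, e]))
    show (k : V ≃ₗ[F] V) ((n : V ≃ₗ[F] V) ((k : V ≃ₗ[F] V).symm (T c y))) = _
    rw [← hv, show T c (B v) = (k : V ≃ₗ[F] V) (T c v) from (ek c v).symm, LinearEquiv.symm_apply_apply, hn']
  suffices hcomm : ∀ w z : W, g w w = 0 → g w z = 0 → g z z ≠ 0 → ∀ k ∈ K, El T k LinearMap.id (sv g w z) →
      Commute x k by
    obtain ⟨A, B, e⟩ := O.key O.toTensor O.dimU (x := x) fun w z hw hwz hz k hk ek => ⟨sv g w z, by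
      rw [show x * k * x⁻¹ = k by rw [(hcomm w z hw hwz hz k hk ek).eq, mul_inv_cancel_right]]; exact ek⟩
    exact ⟨A, B, e⟩
  intro w z hw hwz hz k hk ek
  by_cases hw0 : w = 0
  · have hk1 : k = 1 := O.el_ext fun a y => by simp [ek a y, hw0, sv_apply]
    rw [hk1]; exact Commute.one_right x
  have hp1 : p ≠ 2 := fun e => O.two (by
    have := ringChar.eq_iff.1 e
    exact CharTwo.two_eq_zero)
  have hkk : ∀ t : F, t ≠ 0 → ∃ m ∈ K, El T m LinearMap.id (sv g w (t • z)) := fun t ht =>
    O.siegel hw (by simp [hwz]) (by simp [ht, hz])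
  have hcop : (Nat.card N).Coprime p := by
    refine Nat.Coprime.symm (hpf.out.coprime_iff_not_dvd.2 fun hd => ?_)
    set M : Subgroup (OQ Q) := N ⊔ zpowers k
    have hMn : M ≤ normalizer (N : Set (OQ Q)) := sup_le le_normalizer (zpowers_le.2 (hnorm k _ hk ek))
    set N' : Subgroup M := N.subgroupOf M
    haveI hN'n : N'.Normal := normal_subgroupOf_of_le_normalizer hMn
    have hkp : k ^ p = 1 := by
      have h : ∀ n : ℕ, El T (k ^ n) LinearMap.id (sv g w ((n : F) • z)) := by
        intro n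
        induction n with
        | zero => intro a y; simp [sv_apply]
        | succ n ih =>
          have e := ek.mul ih
          rw [pow_succ', Nat.cast_succ, add_smul, one_smul]
          rwa [O.sv_add hw hwz (by simp [hwz]), LinearMap.id_comp, add_comm] at e
      have h' := h p
      rw [CharP.cast_eq_zero, zero_smul] at h'
      exact O.el_ext fun a y => by rw [h' a y]; simp [sv_apply]
    obtain ⟨R, hR⟩ := (show IsPGroup p (zpowers (⟨k, (le_sup_right : _ ≤ M) (mem_zpowers k)⟩ : M)) from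
      fun ⟨y, hy⟩ => ⟨1, by
        obtain ⟨i, rfl⟩ := mem_zpowers_iff.1 hy
        refine Subtype.ext (Subtype.ext ?_)
        rw [pow_one]
        show ((k ^ i) ^ p : OQ Q) = 1
        rw [← zpow_natCast, zpow_comm, zpow_natCast, hkp, one_zpow]⟩).exists_le_sylow
    have hkR : (⟨k, (le_sup_right : _ ≤ M) (mem_zpowers k)⟩ : M) ∈ (R : Subgroup M) := hR (mem_zpowers _)
    have hmeet : N' ⊓ (R : Subgroup M) ≠ ⊥ := fun h0 => by
      have h1 : N'.relIndex (R : Subgroup M) ∣ N'.index := relIndex_dvd_index_of_normal _ _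
      rw [← inf_relIndex_right, h0, relIndex_bot_left] at h1
      have hN'c : Nat.card N' = Nat.card N :=
        Nat.card_congr (subgroupOfEquivOfLe (le_sup_left : N ≤ M)).toEquiv
      refine R.not_dvd_index ((Nat.mul_dvd_mul_iff_left (Nat.card_pos (α := (R : Subgroup M)))).1 ?_)
      rw [card_mul_index, ← card_mul_index N', mul_comm _ p]
      exact mul_dvd_mul (hN'c ▸ hd) h1
    obtain ⟨⟨o, hoR⟩, ho1, hoc, honN⟩ : ∃ o : (R : Subgroup M), o ≠ 1 ∧ o ∈ Subgroup.center (R : Subgroup M) ∧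
        (o : M) ∈ N' := by
      have hne : N'.subgroupOf (R : Subgroup M) ≠ ⊥ := fun e => hmeet (by
        rw [← subgroupOf_map_subtype, e, Subgroup.map_bot])
      haveI := hN'n.subgroupOf (R : Subgroup M)
      haveI := R.isPGroup'.isNilpotent
      obtain ⟨⟨o, ho⟩, ho1⟩ := Subgroup.ne_bot_iff_exists_ne_one.1
        (CfsgLib.Core.inf_center_ne_bot_of_isNilpotent (N'.subgroupOf (R : Subgroup M)) hne)
      replace ho1 : o ≠ 1 := fun e => ho1 (Subtype.ext e)
      exact ⟨o, ho1, ho.2, ho.1⟩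
    obtain ⟨j, hj⟩ := R.isPGroup' ⟨o, hoR⟩
    have hok : Commute (o : OQ Q) k :=
      congrArg (fun v : (R : Subgroup M) => ((v : M) : OQ Q)) ((Subgroup.mem_center_iff.1 hoc ⟨_, hkR⟩)).symm
    have := O.eq_one_of_commute (p := p) hc (x := (o : OQ Q)) honN.1 honN.2 hw0 hw hwz hz ek hok (j := j)
      (congrArg (fun v : (R : Subgroup M) => ((v : M) : OQ Q)) hj)
    exact ho1 (Subtype.ext (Subtype.ext this))
  by_cases h5 : 5 ≤ p
  · -- Hall–Higman
    set N₀ : Subgroup (V ≃ₗ[F] V) := N.map (OQ Q).subtype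
    have hk₀ : (k : V ≃ₗ[F] V) ∈ normalizer (N₀ : Set (V ≃ₗ[F] V)) :=
      le_normalizer_map (OQ Q).subtype ⟨k, hnorm k _ hk ek, rfl⟩
    refine Subtype.ext (commute_of_coprime h5 N₀ ?_ hk₀ ?_ ⟨x, hxN, rfl⟩).symm
    · rwa [← Nat.card_congr (N.equivMapOfInjective _ (OQ Q).subtype_injective).toEquiv]
    · refine O.hom_ext fun a y => ?_
      have hS : ∀ a y, (((k : V ≃ₗ[F] V) : Module.End F V) - 1) (T a y) = T a (sv g w z y - y) := fun a y => by
        rw [LinearMap.sub_apply, Module.End.one_apply, LinearEquiv.coe_coe, ek, LinearMap.id_apply, map_sub]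
      rw [pow_succ', pow_two, Module.End.mul_apply, Module.End.mul_apply, hS, hS, hS]
      simp only [LinearMap.zero_apply]
      rw [show sv g w z (sv g w z (sv g w z y - y) - (sv g w z y - y)) -
          (sv g w z (sv g w z y - y) - (sv g w z y - y)) = 0 by
        have := O.two
        simp only [sv_apply, map_add, map_sub, map_smul, LinearMap.add_apply, LinearMap.sub_apply,
          smul_eq_mul, hw, hwz, hg.symm w z]
        match_scalars <;> field_simp <;> ring, map_zero]
  -- characteristic three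
  have hp3 : p = 3 := by
    have h2' := hpf.out.two_le
    have h4 : p ≠ 4 := fun e => by
      have := hpf.out
      rw [e] at this
      norm_num at this
    omega
  choose el hel eel using fun t : F => (by
    by_cases ht : t = 0
    · exact ⟨1, K.one_mem, fun a y => by simp [ht, sv_apply]⟩
    · exact hkk t ht : ∃ m ∈ K, El T m LinearMap.id (sv g w (t • z)))
  let φ : Multiplicative F →* OQ Q :=
    { toFun := fun t => el t.toAdd
      map_one' := O.el_ext fun a y => by simp [eel _ a y, sv_apply]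
      map_mul' := fun s t => by
        refine O.el_inj (eel _) ?_
        have e := (eel s.toAdd).mul (eel t.toAdd)
        rwa [O.sv_add hw (by simp [hwz]) (by simp [hwz]), LinearMap.id_comp, ← add_smul] at e }
  obtain ⟨u, hu, hwu⟩ := exists_iso_partner hg hw hw0
  have hφ : Function.Injective φ := by
    intro s t hst
    have h1 : El T (φ s) LinearMap.id (sv g w (t.toAdd • z)) := hst ▸ eel _
    have := O.nontriv
    obtain ⟨a, ha⟩ := exists_ne (0 : U)
    have h2' := congrArg (g z) (O.T_injective' ha (((eel s.toAdd) a u).symm.trans (h1 a u)))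
    simp [sv_apply, hg.symm w z, hwz, hwu] at h2'
    exact h2'.resolve_right hz
  haveI hcm : IsMulCommutative φ.range := ⟨⟨fun ⟨_, s, rfl⟩ ⟨_, t, rfl⟩ =>
    Subtype.ext (by show φ s * φ t = φ t * φ s; rw [← map_mul, mul_comm, map_mul])⟩⟩
  have hcardA : Nat.card φ.range = Nat.card F := (Nat.card_congr (MonoidHom.ofInjective hφ).toEquiv).symm
  have hcyc : ¬ IsCyclic φ.range := fun hcyc => by
    haveI : IsCyclic (Multiplicative F) := isCyclic_of_surjective _ (MonoidHom.ofInjective hφ).symm.surjective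
    obtain ⟨gen, hgen⟩ := IsCyclic.exists_generator (α := Multiplicative F)
    have h1 : orderOf gen = Nat.card F := orderOf_eq_card_of_forall_mem_zpowers hgen
    have h2' : orderOf gen ∣ p := orderOf_dvd_of_pow_eq_one (Multiplicative.toAdd.injective (by
      show p • gen.toAdd = 0
      rw [nsmul_eq_mul, CharP.cast_eq_zero, zero_mul]))
    have := Nat.le_of_dvd (by omega) h2'
    have := O.q5
    omega
  have hAN : φ.range ≤ normalizer (N : Set (OQ Q)) := by
    rintro _ ⟨t, rfl⟩
    exact hnorm _ _ (hel _) (eel _)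
  have hcop' : (Nat.card φ.range).Coprime (Nat.card N) := by
    obtain ⟨m, hm⟩ : ∃ m, Nat.card F = p ^ m := by
      have : Fintype F := Fintype.ofFinite F
      obtain ⟨m, hm1, hm2⟩ := FiniteField.card F p
      exact ⟨m, by rw [Nat.card_eq_fintype_card, hm2]⟩
    rw [hcardA, hm]
    exact (hcop.symm).pow_left m
  have hgen := Cfsg.Agent.S0058.result φ.range N hcyc hAN hcop'
  have hle : N ≤ centralizer ({k} : Set (OQ Q)) := by
    conv_lhs => rw [← hgen]
    refine iSup₂_le fun a ⟨⟨t, ha⟩, ha1⟩ n hn => ?_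
    subst ha
    have ht : t.toAdd ≠ 0 := fun e => ha1 (by
      rw [show t = 1 from Multiplicative.toAdd.injective e, map_one])
    refine mem_centralizer_singleton_iff.2 (O.commute_scale (t := t.toAdd) (t' := 1) hw hwz ht (eel _)
      (by rwa [one_smul]) ((mem_centralizer_singleton_iff.1 hn.2))).eq
  exact mem_centralizer_singleton_iff.1 (hle hxN)

/-- An element preserving `c ⊗ W` is a product. -/
theorem tens_of_axis {c : U} (hc : f c c ≠ 0) {x : OQ Q} (hx : x ∈ K) {B : W →ₗ[F] W}
    (hxc : ∀ y, (x : V ≃ₗ[F] V) (T c y) = T c (B y)) : Tens T x := by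
  have hB : ∀ y y', g (B y) (B y') = g y y' := fun y y' => by
    have h := OQ.map_polar x (T c y) (T c y')
    rw [hxc, hxc, O.polarT, O.polarT] at h
    exact mul_left_cancel₀ hc h
  obtain ⟨h₀, e₀⟩ : ∃ h₀ : OQ Q, El T h₀ LinearMap.id B := by
    obtain ⟨k, hk⟩ := O.exists_el (A := LinearMap.id) (fun _ _ => rfl) hB
    exact ⟨k, hk⟩
  obtain ⟨K₀, hK₀⟩ := O.toTensor.flip.refl_invariants O.five_V
  have hrefl : ∀ s : SqClass F, ∃ p, f p p ≠ 0 ∧ f c p = 0 ∧ ∃ k : OQ Q,
      El T k (refl f p) LinearMap.id ∧ par k = 1 ∧ spinor k = K₀ * s := by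
    intro s
    obtain ⟨ν, hν, hνs⟩ := exists_sqc_eq s
    obtain ⟨p, hp, hpP⟩ := O.hf.exists_norm_perp (Submodule.span F {c}) (fun v hv hvP => by
      obtain ⟨t, rfl⟩ := Submodule.mem_span_singleton.1 hv
      have := hvP c (Submodule.mem_span_singleton_self c)
      rw [map_smul, smul_eq_mul, mul_eq_zero] at this
      rw [this.resolve_right hc, zero_smul]) (by
      rw [finrank_span_singleton (fun e => hc (by simp [e])), O.dimU]) hν
    obtain ⟨k, e, hpk, hsk⟩ := hK₀ p (hp ▸ hν)
    refine ⟨p, hp ▸ hν, hpP c (Submodule.mem_span_singleton_self c), k, fun a y => e y a, ?_, ?_⟩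
    · rw [hpk, O.dimW]; decide
    · rw [hsk, O.dimW, hp, hνs, pow_three, sqClass_mul_self, mul_one]
  obtain ⟨r, A, hr, hA, eA, hAc⟩ : ∃ r : OQ Q, ∃ A : U →ₗ[F] U,
      (par (h₀ * r) = 0 ∧ spinor (h₀ * r) = 1) ∧ (∀ a b, f (A a) (A b) = f a b) ∧ El T r A LinearMap.id ∧
        A c = c := by
    rcases (by generalize par h₀ = e; revert e; decide : par h₀ = 0 ∨ par h₀ = 1) with h | h
    · obtain ⟨p, hp, hcp, k, e, pk, sk⟩ := hrefl 1
      obtain ⟨p', hp', hcp', k', e', pk', sk'⟩ := hrefl (spinor h₀)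
      refine ⟨k * k', refl f p ∘ₗ refl f p', ⟨?_, ?_⟩,
        fun a b => by simp [O.hf.refl_isometry hp, O.hf.refl_isometry hp'],
        by simpa using e.mul e', ?_⟩
      · rw [par_mul O.hQ O.reflTop, par_mul O.hQ O.reflTop, h, pk, pk']; decide
      · rw [spinor_mul O.hQ O.reflTop, spinor_mul O.hQ O.reflTop, sk, sk', mul_one, ← mul_assoc K₀,
          sqClass_mul_self, one_mul, sqClass_mul_self]
      · rw [LinearMap.comp_apply, O.hf.refl_fix (x := c) ((O.hf.symm c p').trans hcp'),
          O.hf.refl_fix (x := c) ((O.hf.symm c p).trans hcp)]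
    · obtain ⟨p, hp, hcp, k, e, pk, sk⟩ := hrefl (K₀ * spinor h₀)
      refine ⟨k, refl f p, ⟨?_, ?_⟩, fun a b => O.hf.refl_isometry hp a b, e,
        O.hf.refl_fix ((O.hf.symm c p).trans hcp)⟩
      · rw [par_mul O.hQ O.reflTop, h, pk]; decide
      · rw [spinor_mul O.hQ O.reflTop, sk, ← mul_assoc K₀, sqClass_mul_self, one_mul, sqClass_mul_self]
  have hm : El T (h₀ * r) A B := by simpa using e₀.mul eA
  have hmK : h₀ * r ∈ K := O.base _ ((mem_commutator_iff O.hQ O.reflTop _).2 hr) hm.tens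
  have hy : Tens T ((h₀ * r)⁻¹ * x) := O.fixer_tens hc (K.mul_mem (K.inv_mem hmK) hx) fun y => by
    show ((h₀ * r : OQ Q) : V ≃ₗ[F] V).symm ((x : V ≃ₗ[F] V) (T c y)) = _
    rw [LinearEquiv.symm_apply_eq, hxc, hm, hAc]
  have := hm.tens.mul hy
  rwa [mul_inv_cancel_left] at this

/-- **The centraliser of a half-turn of the first factor.** -/
theorem centr {c : U} (hc : GoodL T f K c) {k x : OQ Q} (e : El T k (hh f c) LinearMap.id) (hx : x ∈ K)
    (hxk : Commute x k) : Tens T x := by
  set P : V →ₗ[F] W := O.toTensor.flip.C c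
  have hk : ∀ v, v + (k : V ≃ₗ[F] V) v = (2 / f c c) • T c (P v) := fun v => by
    refine LinearMap.congr_fun (O.hom_ext (L := LinearMap.id + ((k : V ≃ₗ[F] V) : V →ₗ[F] V))
      (L' := (2 / f c c) • (T c ∘ₗ P)) fun a y => ?_) v
    simp only [LinearMap.add_apply, LinearMap.smul_apply, LinearMap.comp_apply, LinearEquiv.coe_coe,
      LinearMap.id_apply, e a y, P]
    rw [show O.toTensor.flip.C c (T a y) = f c a • y from O.toTensor.flip.C_T c y a]
    simp [hh_apply, smul_smul]
  refine O.tens_of_axis hc.1 hx (B := (f c c)⁻¹ • (P ∘ₗ ((x : V ≃ₗ[F] V) : V →ₗ[F] V) ∘ₗ T c)) fun y => ?_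
  have h1 : (k : V ≃ₗ[F] V) ((x : V ≃ₗ[F] V) (T c y)) = (x : V ≃ₗ[F] V) (T c y) := by
    have h := LinearEquiv.congr_fun (congrArg Subtype.val hxk.eq) (T c y)
    exact (h.symm.trans (by show (x : V ≃ₗ[F] V) ((k : V ≃ₗ[F] V) (T c y)) = _
                            rw [e, hh_self O.hf hc.1, LinearMap.id_apply]))
  have h2 := hk ((x : V ≃ₗ[F] V) (T c y))
  rw [h1, ← two_smul F] at h2
  refine smul_right_injective V O.two (h2.trans ?_)
  simp [smul_smul, div_eq_mul_inv]

theorem centr_right {d : W} (hd : GoodR T g K d) {k x : OQ Q} (e : El T k LinearMap.id (hh g d)) (hx : x ∈ K)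
    (hxk : Commute x k) : Tens T x := by
  obtain ⟨hd0, m, hm, em⟩ := hd
  obtain ⟨A, B, h⟩ := O.flip.centr ⟨hd0, m, hm, em.flip⟩ e.flip hx hxk
  exact ⟨B, A, fun a y => h y a⟩

end Sq

end CfsgLib.Geo.OrthTensor.Square
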