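/-
Conjugates of half-turns in the overgroup of a tensor square stay products.
-/
import Cfsg.Agent.Lib.Geo.OrthTensor.Square.Centralizer
import Cfsg.Agent.Lib.Geo.OrthTensor.Invol

set_option autoImplicit false
set_option linter.unusedSectionVars false

namespace CfsgLib.Geo.OrthTensor.Square

open CfsgLib.Classical CfsgLib.Classical.Quad Module
open CfsgLib.Geo.MixTensor (SymForm refl refl_apply)
open QuadraticMap (polar polarBilin)
open LinearMap (BilinForm)

variable {F : Type*} [Field F] {U W V : Type*} [AddCommGroup U] [Module F U] [FiniteDimensional F U]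
  [AddCommGroup W] [Module F W] [FiniteDimensional F W] [AddCommGroup V] [Module F V] [FiniteDimensional F V]
  {Q : QuadraticForm F V} {f : BilinForm F U} {g : BilinForm F W} {T : U →ₗ[F] W →ₗ[F] V}
  {K : Subgroup (OQ Q)}

/-- A half-turn of one factor lying in the group. -/
def Tt (T : U →ₗ[F] W →ₗ[F] V) (f : BilinForm F U) (g : BilinForm F W) (K : Subgroup (OQ Q)) (k : OQ Q) : Prop :=
  (∃ c, GoodL T f K c ∧ El T k (hh f c) LinearMap.id) ∨ ∃ d, GoodR T g K d ∧ El T k LinearMap.id (hh g d)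

/-- A conjugate of a half-turn. -/
def Tcl (T : U →ₗ[F] W →ₗ[F] V) (f : BilinForm F U) (g : BilinForm F W) (K : Subgroup (OQ Q)) (y : OQ Q) : Prop :=
  ∃ m ∈ K, Tt T f g K (m * y * m⁻¹)

/-- An element interchanging the factors. -/
def Sw (T : U →ₗ[F] W →ₗ[F] V) (x : OQ Q) : Prop :=
  ∃ (A : U →ₗ[F] W) (B : W →ₗ[F] U), ∀ a y, (x : V ≃ₗ[F] V) (T a y) = T (B y) (A a)

/-- The trace. -/
noncomputable def tr (k : OQ Q) : F := LinearMap.trace F V ((k : V ≃ₗ[F] V) : V →ₗ[F] V)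

theorem tr_conj (m k : OQ Q) : tr (m * k * m⁻¹) = tr k := by
  have e : ((((m * k * m⁻¹ : OQ Q)) : V ≃ₗ[F] V) : V →ₗ[F] V) =
      (m : V ≃ₗ[F] V).conj ((k : V ≃ₗ[F] V) : V →ₗ[F] V) := LinearMap.ext fun v => rfl
  rw [tr, e, LinearMap.trace_conj']
  rfl

theorem Tcl.of_conj {m y : OQ Q} (hm : m ∈ K) (h : Tcl T f g K y) : Tcl T f g K (m * y * m⁻¹) := by
  obtain ⟨n, hn, h⟩ := h
  refine ⟨n * m⁻¹, K.mul_mem hn (K.inv_mem hm), ?_⟩
  convert h using 1
  group

theorem Tt.tcl {y : OQ Q} (h : Tt T f g K y) : Tcl T f g K y := ⟨1, K.one_mem, by simpa using h⟩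

variable [Finite F]

namespace Sq

variable (O : Sq Q f g T K)
include O

theorem four_ne : (4 : F) ≠ 0 := by
  rw [show (4 : F) = 2 * 2 by norm_num]
  exact mul_ne_zero O.two O.two

theorem tr_D {k : OQ Q} {c : U} {d : W} (hc : f c c ≠ 0) (hd : g d d ≠ 0) (e : El T k (hh f c) (hh g d)) :
    tr k = 1 := by
  rw [tr, O.trace_el e, trace_hh O.hf O.dimU hc, trace_hh O.hg O.dimW hd]; norm_num

theorem tr_tt {k : OQ Q} (h : Tt T f g K k) : tr k = -3 := by
  rcases h with ⟨c, hc, e⟩ | ⟨d, hd, e⟩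
  · rw [tr, O.trace_el e, trace_hh O.hf O.dimU hc.1, LinearMap.trace_id, O.dimW]; norm_num
  · rw [tr, O.trace_el e, trace_hh O.hg O.dimW hd.1, LinearMap.trace_id, O.dimU]; norm_num

theorem tr_tcl {k : OQ Q} (h : Tcl T f g K k) : tr k = -3 := by
  obtain ⟨m, -, h⟩ := h
  rw [← tr_conj m, O.tr_tt h]

theorem absurd_tr {x y : OQ Q} (hx : tr x = 1) (hy : tr y = -3) (h : tr x = tr y) : False := by
  rw [hx, hy] at h
  exact O.four_ne (by linear_combination h)

theorem mem_of_tt {k : OQ Q} (h : Tt T f g K k) : k ∈ K := by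
  rcases h with ⟨c, hc, e⟩ | ⟨d, hd, e⟩
  · obtain ⟨-, m, hm, em⟩ := hc; rwa [O.el_inj e em]
  · obtain ⟨-, m, hm, em⟩ := hd; rwa [O.el_inj e em]

theorem mem_of_tcl {k : OQ Q} (h : Tcl T f g K k) : k ∈ K := by
  obtain ⟨m, hm, h⟩ := h
  have := K.mul_mem (K.mul_mem (K.inv_mem hm) (O.mem_of_tt h)) hm
  simpa [mul_assoc] using this

theorem sq_D {k : OQ Q} {A : U →ₗ[F] U} {B : W →ₗ[F] W} (hA : ∀ a, A (A a) = a) (hB : ∀ y, B (B y) = y)
    (e : El T k A B) : k * k = 1 :=
  O.el_ext fun a y => by rw [(e.mul e) a y]; simp [hA, hB]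

theorem sq_tt {k : OQ Q} (h : Tt T f g K k) : k * k = 1 := by
  rcases h with ⟨c, hc, e⟩ | ⟨d, hd, e⟩
  · exact O.sq_D (hh_hh O.hf hc.1) (fun y => rfl) e
  · exact O.sq_D (fun a => rfl) (hh_hh O.hg hd.1) e

theorem sq_tcl {k : OQ Q} (h : Tcl T f g K k) : k * k = 1 := by
  obtain ⟨m, -, h⟩ := h
  have := O.sq_tt h
  rw [show m * k * m⁻¹ * (m * k * m⁻¹) = m * (k * k) * m⁻¹ by group] at this
  have h' : m * (k * k) * m⁻¹ = m * 1 * m⁻¹ := by rw [this]; group
  simpa using h'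

/-- An element commuting with a half-turn is a product. -/
theorem centr_tt {k x : OQ Q} (h : Tt T f g K k) (hx : x ∈ K) (hxk : Commute x k) : Tens T x := by
  rcases h with ⟨c, hc, e⟩ | ⟨d, hd, e⟩
  · exact O.centr hc e hx hxk
  · exact O.centr_right hd e hx hxk

theorem tt_of_tens {y : OQ Q} (hy : Tcl T f g K y) (h : Tens T y) : Tt T f g K y := by
  have h3 := O.tr_tcl hy
  have h1 : y ≠ 1 := fun e => by
    obtain ⟨m, -, hm⟩ := hy
    rw [e, mul_one, mul_inv_cancel] at hm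
    rcases hm with ⟨c, hc, ec⟩ | ⟨d, hd, ed⟩
    · obtain ⟨t, ht, -⟩ := O.el_unique ec El.one (fun a b => rfl) (fun y z => rfl)
      exact hh_ne_id O.hf O.dimU hc.1 (t := t) (LinearMap.ext ht)
    · obtain ⟨t, -, ht⟩ := O.el_unique El.one ed (fun a b => rfl) (fun y z => rfl)
      exact hh_ne_id O.hg O.dimW hd.1 (t := t) (LinearMap.ext ht)
  rcases O.invol (O.mem_of_tcl hy) h (O.sq_tcl hy) h1 with h' | h' | ⟨c, d, hc, hd, e⟩
  · exact Or.inl h'
  · exact Or.inr h'
  · exact (O.absurd_tr (O.tr_D hc hd e) h3 rfl).elim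

/-- Commuting products have commuting factors. -/
theorem comm_el {k k' : OQ Q} {A A' : U →ₗ[F] U} {B B' : W →ₗ[F] W} (e : El T k A B) (e' : El T k' A' B')
    (hA : ∀ a b, f (A a) (A b) = f a b) (hA' : ∀ a b, f (A' a) (A' b) = f a b)
    (hB : ∀ y z, g (B y) (B z) = g y z) (hB' : ∀ y z, g (B' y) (B' z) = g y z) (h : Commute k k') :
    (∀ a, A (A' a) = A' (A a)) ∧ ∀ y, B (B' y) = B' (B y) := by
  obtain ⟨t, ht, ht'⟩ := O.el_unique (e.mul e') (h.eq ▸ e'.mul e)
    (fun a b => by simp [hA, hA']) (fun y z => by simp [hB, hB'])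
  have hd : ∀ X : U →ₗ[F] U, (∀ a b, f (X a) (X b) = f a b) → LinearMap.det X * LinearMap.det X = 1 := fun X hX => by
    simpa using det_sq_of_sim (l := (1 : F)) O.hf.nd fun x y => by rw [hX, one_mul]
  have htt : t * t = 1 := by
    have := O.nontriv
    obtain ⟨a₀, ha₀⟩ := O.hf.exists_aniso
    have h3 := congrArg (fun v => f v v) (ht a₀)
    simp only [LinearMap.comp_apply, map_smul, LinearMap.smul_apply, smul_eq_mul, hA, hA'] at h3
    exact (mul_eq_right₀ ha₀).1 (by linear_combination -h3)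
  have ht3 : t ^ 3 = 1 := by
    have e1 : A ∘ₗ A' = t • (A' ∘ₗ A) := LinearMap.ext ht
    have h4 := congrArg LinearMap.det e1
    rw [LinearMap.det_comp, LinearMap.det_smul, LinearMap.det_comp, O.dimU] at h4
    have hne : LinearMap.det A' * LinearMap.det A ≠ 0 := fun h0 => by
      have := congrArg (fun s => s * s) h0
      rw [mul_zero, mul_mul_mul_comm, hd A' hA', hd A hA, one_mul] at this
      exact one_ne_zero this
    exact (mul_eq_right₀ hne).1 (by rw [← h4, mul_comm])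
  have ht1 : t = 1 := by linear_combination ht3 - t * htt
  exact ⟨fun a => by simpa [ht1] using ht a, fun y => (by simpa [ht1] using ht' y : B' (B y) = B (B' y)).symm⟩

/-- An involution commuting with a product of two half-turns. -/
theorem split {s d₀ : OQ Q} (hs : s ∈ K) (hsT : Tens T s) (hs2 : s * s = 1) (hs1 : s ≠ 1) (hd₀ : d₀ ∈ K) {c : U}
    {d : W} (hc : f c c ≠ 0) (hd : g d d ≠ 0) (e₀ : El T d₀ (hh f c) (hh g d)) (hcomm : Commute s d₀)
    (hne : s ≠ d₀) :
    (∃ t, Tt T f g K t ∧ ∀ y, Commute y s → Commute y d₀ → Commute y t) ∨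
      ∃ a b, f a a ≠ 0 ∧ g b b ≠ 0 ∧ f a c = 0 ∧ g b d = 0 ∧ El T s (hh f a) (hh g b) := by
  rcases O.invol hs hsT hs2 hs1 with ⟨a, ha, e⟩ | ⟨b, hb, e⟩ | ⟨a, b, ha, hb, e⟩
  · exact Or.inl ⟨s, Or.inl ⟨a, ha, e⟩, fun y h _ => h⟩
  · exact Or.inl ⟨s, Or.inr ⟨b, hb, e⟩, fun y h _ => h⟩
  obtain ⟨hA, hB⟩ := O.comm_el e e₀ (hh_isometry O.hf ha) (hh_isometry O.hf hc) (hh_isometry O.hg hb)
    (hh_isometry O.hg hd) hcomm
  have hp := e.mul e₀
  rcases hh_comm_cases O.hf ha hc hA with ea | hac <;> rcases hh_comm_cases O.hg hb hd hB with eb | hbd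
  · exact absurd (O.el_inj e (ea ▸ eb ▸ e₀)) hne
  · obtain ⟨r, hr, hbr, hdr⟩ := exists_third O.hg O.dimW hb hd hbd
    rw [ea, hh_comp O.hg O.dimW hb hd hr hbd hbr hdr, show hh f c ∘ₗ hh f c = LinearMap.id from
      LinearMap.ext (hh_hh O.hf hc)] at hp
    exact Or.inl ⟨s * d₀, Or.inr ⟨r, ⟨hr, s * d₀, K.mul_mem hs hd₀, hp⟩, hp⟩, fun y h h' => h.mul_right h'⟩
  · obtain ⟨r, hr, har, hcr⟩ := exists_third O.hf O.dimU ha hc hac
    rw [eb, hh_comp O.hf O.dimU ha hc hr hac har hcr, show hh g d ∘ₗ hh g d = LinearMap.id from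
      LinearMap.ext (hh_hh O.hg hd)] at hp
    exact Or.inl ⟨s * d₀, Or.inl ⟨r, ⟨hr, s * d₀, K.mul_mem hs hd₀, hp⟩, hp⟩, fun y h h' => h.mul_right h'⟩
  · exact Or.inr ⟨a, b, ha, hb, hac, hbd, e⟩

/-- A frame of commuting products of two half-turns. -/
structure Frm (_O : Sq Q f g T K) (e : Fin 3 → U) (d : Fin 3 → W) (s : Fin 3 → OQ Q) : Prop where
  anU : ∀ i, f (e i) (e i) ≠ 0
  anW : ∀ i, g (d i) (d i) ≠ 0
  orU : ∀ i j, i ≠ j → f (e i) (e j) = 0
  orW : ∀ i j, i ≠ j → g (d i) (d j) = 0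
  el : ∀ i, El T (s i) (hh f (e i)) (hh g (d i))
  mem : ∀ i, s i ∈ K

/-- A conjugate of a half-turn along a frame. -/
theorem step {e : Fin 3 → U} {d : Fin 3 → W} {s : Fin 3 → OQ Q} (R : O.Frm e d s) {y : OQ Q}
    (hy : Tcl T f g K y) (hys : ∀ i, Commute y (s i)) {k : Fin 3} (hk : GoodR T g K (d k)) :
    Tens T y ∨ Tcl T f g K (y * s k) := by
  haveI := finite_OQ Q
  have hyK := O.mem_of_tcl hy
  obtain ⟨q, hq, eq⟩ := hk.2
  have hqT : Tt T f g K q := Or.inr ⟨d k, hk, eq⟩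
  have hqs : ∀ i, Commute q (s i) := fun i => by
    refine O.el_inj (eq.mul (R.el i)) ?_
    rcases eq_or_ne i k with rfl | hne
    · exact (R.el i).mul eq
    · obtain ⟨r, hr, h1, h2⟩ := exists_third O.hg O.dimW (R.anW i) (R.anW k) (R.orW _ _ hne)
      have e1 := (R.el i).mul eq
      rw [hh_comp O.hg O.dimW (R.anW i) (R.anW k) hr (R.orW _ _ hne) h1 h2] at e1
      rw [hh_comp O.hg O.dimW (R.anW k) (R.anW i) hr (R.orW _ _ hne.symm) h2 h1]
      exact e1
  have hprod : ∀ i, i ≠ k → tr (s i * q) = 1 := fun i hne => by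
    obtain ⟨r, hr, h1, h2⟩ := exists_third O.hg O.dimW (R.anW i) (R.anW k) (R.orW _ _ hne)
    refine O.tr_D (R.anU i) hr ?_
    have := (R.el i).mul eq
    rwa [hh_comp O.hg O.dimW (R.anW i) (R.anW k) hr (R.orW _ _ hne) h1 h2, LinearMap.comp_id] at this
  have hpk : Tt T f g K (q * s k) := by
    have h := eq.mul (R.el k)
    rw [LinearMap.id_comp, show hh g (d k) ∘ₗ hh g (d k) = LinearMap.id from
      LinearMap.ext (hh_hh O.hg (R.anW k))] at h
    exact Or.inl ⟨e k, ⟨R.anU k, q * s k, K.mul_mem hq (R.mem k), h⟩, h⟩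
  have hgs : ∀ (j : ℕ) i, Commute ((y * q) ^ j) (s i) := fun j i => ((hys i).mul_left (hqs i)).pow_left j
  rcases dihedral (O.sq_tcl hy) (O.sq_tt hqT) with
    ⟨-, j, hj⟩ | ⟨n, j, -, hcy, hcq, hz2, hz1, hcase⟩
  · refine Or.inr ?_
    set m := (y * q) ^ j
    have hm : m ∈ K := K.pow_mem (K.mul_mem hyK hq) j
    rw [show y * s k = m * (q * s k) * m⁻¹ by
      conv_lhs => rw [← hj, mul_assoc, (hgs j k).inv_left.eq]
      simp only [m, mul_assoc]]
    exact hpk.tcl.of_conj hm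
  set z := (y * q) ^ n
  set m := (y * q) ^ j
  have hm : m ∈ K := K.pow_mem (K.mul_mem hyK hq) j
  have hzK : z ∈ K := K.pow_mem (K.mul_mem hyK hq) n
  have hzT : Tens T z := O.centr_tt hqT hzK hcq
  have key : ∀ i, z = s i ∨ Tens T y ∨
      ∃ a b, f a a ≠ 0 ∧ g b b ≠ 0 ∧ f a (e i) = 0 ∧ g b (d i) = 0 ∧ El T z (hh f a) (hh g b) := fun i => by
    by_cases hzi : z = s i
    · exact Or.inl hzi
    refine Or.inr ?_
    rcases O.split hzK hzT hz2 hz1 (R.mem i) (R.anU i) (R.anW i) (R.el i) (hgs n i) hzi with ⟨t, ht, hc⟩ | h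
    · exact Or.inl (O.centr_tt ht hyK (hc y hcy.symm (hys i)))
    · exact Or.inr h
  obtain ⟨i, hzi⟩ | hT : (∃ i, z = s i) ∨ Tens T y := by
    by_contra! hno
    obtain ⟨hno, hny⟩ := hno
    have h : ∀ i, ∃ a b, f a a ≠ 0 ∧ g b b ≠ 0 ∧ f a (e i) = 0 ∧ g b (d i) = 0 ∧ El T z (hh f a) (hh g b) :=
      fun i => ((key i).resolve_left (hno i)).resolve_left hny
    obtain ⟨a, b, ha, hb, -, -, ez⟩ := h 0
    have hperp : ∀ i, g b (d i) = 0 := fun i => by
      obtain ⟨a', b', ha', hb', -, hbd, ez'⟩ := h i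
      obtain ⟨t, -, ht⟩ := O.el_unique ez ez' (hh_isometry O.hf ha') (hh_isometry O.hg hb)
      obtain ⟨r, -, hr⟩ : ∃ r : F, True ∧ b' = r • b := by
        have h1 := ht b'
        rw [hh_self O.hg hb', hh_apply, smul_sub, smul_smul] at h1
        have hs : (1 + t) • b' = (t * (2 / g b b * g b b')) • b := by linear_combination (norm := module) h1
        by_cases h0 : 1 + t = 0
        · exfalso
          obtain ⟨v, hv, hvb⟩ := exists_aniso_perp O.hg (Submodule.span F {b'}) (fun x hx hxP => by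
            obtain ⟨r, rfl⟩ := Submodule.mem_span_singleton.1 hx
            have := hxP b' (Submodule.mem_span_singleton_self b')
            rw [map_smul, smul_eq_mul, mul_eq_zero] at this
            rw [this.resolve_right hb', zero_smul]) (by
            rw [finrank_span_singleton (fun e => hb' (by simp [e])), O.dimW]; omega)
          have h2 := ht v
          rw [hh_perp O.hg (hvb b' (Submodule.mem_span_singleton_self b')), hh_apply,
            show t = -1 by linear_combination h0] at h2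
          rw [h0, zero_smul, eq_comm, smul_eq_zero] at hs
          rcases hs with hs | hs
          · have hbb : g b b' = 0 := by
              rw [mul_eq_zero, mul_eq_zero, div_eq_zero_iff] at hs
              rcases hs with hs | ((hs | hs) | hs)
              · exact absurd hs fun e => one_ne_zero (by linear_combination h0 - e : (1 : F) = 0)
              · exact absurd hs O.two
              · exact absurd hs hb
              · exact hs
            -- both perpendicular: the other half-turns fix no plane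
            obtain ⟨w', hw', hw1, hw2⟩ := exists_third O.hg O.dimW hb hb' hbb
            have h5 := ht w'
            rw [hh_perp O.hg hw2, hh_perp O.hg hw1, show t = -1 by linear_combination h0, neg_one_smul,
              neg_neg] at h5
            have h6 : (2 : F) • w' = 0 := by rw [two_smul]; nth_rw 1 [← h5]; exact neg_add_cancel w'
            exact hw' (by simp [(smul_eq_zero.1 h6).resolve_left O.two])
          · exact hb (by simp [hs])
        · exact ⟨(1 + t)⁻¹ * (t * (2 / g b b * g b b')), trivial, by rw [← smul_smul, ← hs, inv_smul_smul₀ h0]⟩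
      have hr0 : r ≠ 0 := fun e => hb' (by simp [hr, e])
      rw [hr, map_smul, LinearMap.smul_apply, smul_eq_mul] at hbd
      exact (mul_eq_zero.1 hbd).resolve_left hr0
    refine hb ?_
    have e0 : g b = 0 := frame_ext O.hg O.dimW (R.anW 0) (R.anW 1) (R.anW 2) (R.orW _ _ (by decide))
      (R.orW _ _ (by decide)) (R.orW _ _ (by decide)) (by simp [hperp]) (by simp [hperp]) (by simp [hperp])
    rw [e0, LinearMap.zero_apply]
  swap
  · exact Or.inl hT
  rcases eq_or_ne i k with rfl | hne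
  · refine Or.inr ?_
    rcases hcase with ⟨-, hy', -⟩ | ⟨-, hy'⟩
    · rw [show y * s i = m * y * m⁻¹ by rw [hy', ← hzi]; exact hcy.eq.symm]
      exact hy.of_conj hm
    · rw [show y * s i = m * q * m⁻¹ by
        conv_lhs => rw [← hy', mul_assoc, (hgs j i).inv_left.eq, hzi]
        rw [show m * (s i * q) * (s i * m⁻¹) = m * (s i * q * s i) * m⁻¹ by group, (hqs i).symm.eq, mul_assoc q,
          ← hzi, hz2, mul_one]]
      exact hqT.tcl.of_conj hm
  exfalso
  rcases hcase with ⟨-, -, hq'⟩ | ⟨-, hy'⟩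
  · exact O.absurd_tr (hprod i hne) (O.tr_tt hqT) (by rw [← hzi, ← hq', tr_conj])
  · exact O.absurd_tr (hprod i hne) (O.tr_tcl hy) (by rw [← hzi, ← hy', tr_conj])

end Sq

end CfsgLib.Geo.OrthTensor.Square
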