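/-
The overgroup of a tensor square preserves the structure.
-/
import Cfsg.Agent.Lib.Geo.OrthTensor.Square.Fusion

set_option autoImplicit false
set_option linter.unusedSectionVars false

namespace CfsgLib.Geo.OrthTensor.Square

open CfsgLib.Classical CfsgLib.Classical.Quad Module
open CfsgLib.Geo.MixTensor (SymForm refl refl_apply)
open QuadraticMap (polar polarBilin)
open LinearMap (BilinForm)

variable {F : Type*} [Field F] [Finite F] {U W V : Type*} [AddCommGroup U] [Module F U] [FiniteDimensional F U]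
  [AddCommGroup W] [Module F W] [FiniteDimensional F W] [AddCommGroup V] [Module F V] [FiniteDimensional F V]
  {Q : QuadraticForm F V} {f : BilinForm F U} {g : BilinForm F W} {T : U →ₗ[F] W →ₗ[F] V}
  {K : Subgroup (OQ Q)}

/-- The factor of a conjugated element of prime order along a half-turn is trivial. -/
theorem kill {U' W' : Type*} [AddCommGroup U'] [Module F U'] [FiniteDimensional F U'] [AddCommGroup W']
    [Module F W'] [FiniteDimensional F W'] {f' : BilinForm F U'} {g' : BilinForm F W'}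
    {T' : U' →ₗ[F] W' →ₗ[F] V} {x k s : OQ Q} (O' : Sq Q f' g' T' K) {p : ℕ} [CharP F p] [hpf : Fact p.Prime]
    (hp1 : p ≠ 2) (hx : x ∈ K) (hs : s ∈ K) (hsk : Commute s k) (hsp0 : s ^ p = 1) {a : U'}
    (ha : GoodL T' f' K a) (ea : El T' (x * k * x⁻¹) (hh f' a) LinearMap.id) :
    ∃ B', El T' (x * s * x⁻¹) LinearMap.id B' := by
  set s' := x * s * x⁻¹
  have hs'K : s' ∈ K := K.mul_mem (K.mul_mem hx hs) (K.inv_mem hx)
  have hs'k : Commute s' (x * k * x⁻¹) := by
    show x * s * x⁻¹ * (x * k * x⁻¹) = x * k * x⁻¹ * (x * s * x⁻¹)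
    rw [show x * s * x⁻¹ * (x * k * x⁻¹) = x * (s * k) * x⁻¹ by group, hsk.eq]
    group
  obtain ⟨A, B, hA, hB, e⟩ := O'.normal (O'.centr ha ea hs'K hs'k)
  have hsp : s' ^ p = 1 := by rw [conj_pow, hsp0, mul_one, mul_inv_cancel]
  obtain ⟨u, hu, hAp, -⟩ := O'.pow_one_el (A := A) (B := B) hA hB e hsp
  obtain ⟨hAa, -⟩ := O'.comm_el e ea hA (hh_isometry O'.hf ha.1) hB (fun _ _ => rfl) hs'k
  obtain ⟨t, htA⟩ : ∃ t : F, A a = t • a := by
    have h1 := hAa a
    rw [hh_self O'.hf ha.1, hh_apply] at h1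
    refine ⟨(f' a a)⁻¹ * f' a (A a), ?_⟩
    have h2 : (2 : F) • A a = (2 / f' a a * f' a (A a)) • a := by linear_combination (norm := module) h1
    refine smul_right_injective U' O'.two (h2.trans ?_)
    match_scalars
    field_simp
  have ht2 : t * t = 1 := by
    have h1 := hA a a
    rw [htA, map_smul, map_smul, LinearMap.smul_apply, smul_eq_mul, smul_eq_mul, ← mul_assoc] at h1
    exact (mul_eq_right₀ ha.1).1 h1
  have htp : t ^ p = u := by
    have h1 : ∀ n : ℕ, (A ^ n : Module.End F U') a = t ^ n • a := by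
      intro n
      induction n with
      | zero => simp
      | succ n ih => rw [pow_succ', Module.End.mul_apply, ih, map_smul, htA, smul_smul, pow_succ]
    have h2 := LinearMap.congr_fun hAp a
    rw [h1, LinearMap.smul_apply, Module.End.one_apply] at h2
    exact smul_left_injective F (show a ≠ 0 from fun e => ha.1 (by simp [e])) h2
  obtain ⟨i, hi⟩ := hpf.out.odd_of_ne_two hp1
  have htu : t = u := by
    have e2 : t ^ p = t := by rw [hi, pow_succ, pow_mul, pow_two, ht2, one_pow, one_mul]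
    exact e2.symm.trans htp
  haveI : CharP (Module.End F U') p := by
    have := O'.nontriv
    exact charP_of_injective_algebraMap (algebraMap F (Module.End F U')).injective p
  have hA1 : (t • A : U' →ₗ[F] U') = LinearMap.id := by
    refine eq_id_of_unipotent O'.hf O'.dimU (c := a) (m := p) (fun x y => ?_) ha.1 ?_ ?_
    · simp [hA, ← mul_assoc, ht2]
    · rw [LinearMap.smul_apply, htA, smul_smul, ht2, one_smul]
    · rw [sub_pow_char_of_commute p (Commute.one_right _), one_pow, smul_pow, hAp, smul_smul, htp, ← htu, ht2,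
        one_smul, sub_self]
  refine ⟨t • B, fun a' y => ?_⟩
  rw [e, LinearMap.id_apply, LinearMap.smul_apply]
  have h := LinearMap.congr_fun hA1 a'
  rw [LinearMap.smul_apply, LinearMap.id_apply] at h
  conv_rhs => rw [← h]
  simp [smul_smul, ht2]

namespace Sq

variable (O : Sq Q f g T K)
include O

/-- The product of two conjugates. -/
theorem conj_commute {m a b : OQ Q} (h : Commute a b) : Commute (m * a * m⁻¹) (m * b * m⁻¹) := by
  show m * a * m⁻¹ * (m * b * m⁻¹) = m * b * m⁻¹ * (m * a * m⁻¹)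
  rw [show m * a * m⁻¹ * (m * b * m⁻¹) = m * (a * b) * m⁻¹ by group, h.eq]
  group

/-- A product of half-turns multiplying a half-turn to a half-turn. -/
theorem same_axis {t s : OQ Q} {a : U} {b : W} (ha : f a a ≠ 0) (hb : g b b ≠ 0) (es : El T s (hh f a) (hh g b))
    (hts : Commute t s) (h3 : tr (t * s) = -3) :
    (∀ c, GoodL T f K c → El T t (hh f c) LinearMap.id → hh f a = hh f c) ∧
      ∀ d, GoodR T g K d → El T t LinearMap.id (hh g d) → hh g b = hh g d := by
  constructor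
  · intro c hc et
    obtain ⟨hA, -⟩ := O.comm_el et es (hh_isometry O.hf hc.1) (hh_isometry O.hf ha) (fun _ _ => rfl)
      (hh_isometry O.hg hb) hts
    rcases hh_comm_cases O.hf hc.1 ha hA with h | h
    · exact h.symm
    · obtain ⟨r, hr, h1, h2⟩ := exists_third O.hf O.dimU hc.1 ha h
      have e := et.mul es
      rw [hh_comp O.hf O.dimU hc.1 ha hr h h1 h2, LinearMap.id_comp] at e
      exact (O.absurd_tr (O.tr_D hr hb e) h3 rfl).elim
  · intro d hd et
    obtain ⟨-, hB⟩ := O.comm_el et es (fun _ _ => rfl) (hh_isometry O.hf ha) (hh_isometry O.hg hd.1)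
      (hh_isometry O.hg hb) hts
    rcases hh_comm_cases O.hg hd.1 hb hB with h | h
    · exact h.symm
    · obtain ⟨r, hr, h1, h2⟩ := exists_third O.hg O.dimW hd.1 hb h
      have e := et.mul es
      rw [hh_comp O.hg O.dimW hd.1 hb hr h h1 h2, LinearMap.id_comp] at e
      exact (O.absurd_tr (O.tr_D ha hr e) h3 rfl).elim

/-- No conjugate of a half-turn multiplies all three products of a frame to such conjugates. -/
theorem triple_false {e : Fin 3 → U} {d : Fin 3 → W} {s : Fin 3 → OQ Q} (R : O.Frm e d s) {y : OQ Q}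
    (hy : Tcl T f g K y) (hys : ∀ i, Commute y (s i)) (h : ∀ i, Tcl T f g K (y * s i)) : False := by
  obtain ⟨m, hm, ht⟩ := hy
  set t := m * y * m⁻¹
  set r : Fin 3 → OQ Q := fun i => m * s i * m⁻¹
  have hts : ∀ i, Commute t (r i) := fun i => O.conj_commute (hys i)
  have hrD : ∀ i, ∃ a b, f a a ≠ 0 ∧ g b b ≠ 0 ∧ El T (r i) (hh f a) (hh g b) := fun i => by
    have hrK : r i ∈ K := K.mul_mem (K.mul_mem hm (R.mem i)) (K.inv_mem hm)
    have htr : tr (r i) = 1 := by rw [tr_conj, O.tr_D (R.anU i) (R.anW i) (R.el i)]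
    have hsq : s i * s i = 1 := O.sq_D (hh_hh O.hf (R.anU i)) (hh_hh O.hg (R.anW i)) (R.el i)
    have hr2 : r i * r i = 1 := by
      rw [show r i * r i = m * (s i * s i) * m⁻¹ by simp only [r]; group, hsq]; group
    have hr1 : r i ≠ 1 := fun e => by
      have hs1 : s i = 1 := by simpa [r] using e
      obtain ⟨u, hu, -⟩ := O.el_unique (R.el i) (hs1.symm ▸ El.one) (fun a b => rfl)
        (hh_isometry O.hg (R.anW i))
      exact hh_ne_id O.hf O.dimU (R.anU i) (t := u) (LinearMap.ext hu)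
    rcases O.invol hrK (O.centr_tt ht hrK (hts i).symm) hr2 hr1 with ⟨a, ha, ea⟩ | ⟨b, hb, eb⟩ | h'
    · exact (O.absurd_tr htr (O.tr_tt (Or.inl ⟨a, ha, ea⟩)) rfl).elim
    · exact (O.absurd_tr htr (O.tr_tt (Or.inr ⟨b, hb, eb⟩)) rfl).elim
    · obtain ⟨a, b, ha, hb, e'⟩ := h'; exact ⟨a, b, ha, hb, e'⟩
  choose a b ha hb er using hrD
  have htr3 : ∀ i, tr (t * r i) = -3 := fun i => by
    rw [show t * r i = m * (y * s i) * m⁻¹ by simp only [t, r]; group, tr_conj, O.tr_tcl (h i)]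
  have hprod : r 0 * r 1 = r 2 := by
    obtain ⟨u, hu⟩ : ∃ u, u = s 0 * s 1 := ⟨_, rfl⟩
    have e01 := (R.el 0).mul (R.el 1)
    rw [hh_comp O.hf O.dimU (R.anU 0) (R.anU 1) (R.anU 2) (R.orU _ _ (by decide)) (R.orU _ _ (by decide))
        (R.orU _ _ (by decide)),
      hh_comp O.hg O.dimW (R.anW 0) (R.anW 1) (R.anW 2) (R.orW _ _ (by decide)) (R.orW _ _ (by decide))
        (R.orW _ _ (by decide))] at e01
    rw [show r 0 * r 1 = m * (s 0 * s 1) * m⁻¹ by simp only [r]; group, O.el_inj e01 (R.el 2)]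
  obtain ⟨u, hu1, hu2⟩ := O.el_unique ((er 0).mul (er 1)) (hprod ▸ er 2) (hh_isometry O.hf (ha 2))
    (fun p q => by simp [hh_isometry O.hg (hb 0), hh_isometry O.hg (hb 1)])
  rcases ht with ⟨c, hc, et⟩ | ⟨c, hc, et⟩
  · have hs : ∀ i, hh f (a i) = hh f c := fun i => (O.same_axis (ha i) (hb i) (er i) (hts i) (htr3 i)).1 c hc et
    refine hh_ne_id O.hf O.dimU hc.1 (t := u) (LinearMap.ext fun x => ?_)
    have := hu1 (hh f c x)
    simp only [hs, LinearMap.comp_apply, hh_hh O.hf hc.1] at this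
    simpa using this
  · have hs : ∀ i, hh g (b i) = hh g c := fun i => (O.same_axis (ha i) (hb i) (er i) (hts i) (htr3 i)).2 c hc et
    refine hh_ne_id O.hg O.dimW hc.1 (t := u) (LinearMap.ext fun x => ?_)
    have := hu2 x
    simp only [hs, LinearMap.comp_apply, hh_hh O.hg hc.1] at this
    simpa using this

/-- The frame given by two orthogonal products of half-turns. -/
theorem exists_frame {z d₀ : OQ Q} {a c : U} {b d : W} (hz : z ∈ K) (hd₀ : d₀ ∈ K) (ha : f a a ≠ 0)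
    (hb : g b b ≠ 0) (hc : f c c ≠ 0) (hd : g d d ≠ 0) (hac : f a c = 0) (hbd : g b d = 0)
    (ez : El T z (hh f a) (hh g b)) (e₀ : El T d₀ (hh f c) (hh g d)) :
    ∃ a' b', O.Frm ![a, a', c] ![b, b', d] ![z, z * d₀, d₀] := by
  obtain ⟨a', ha', haa, hca⟩ := exists_third O.hf O.dimU ha hc hac
  obtain ⟨b', hb', hbb, hdb⟩ := exists_third O.hg O.dimW hb hd hbd
  refine ⟨a', b', ⟨fun i => ?_, fun i => ?_, fun i j hij => ?_, fun i j hij => ?_, fun i => ?_, fun i => ?_⟩⟩
  · fin_cases i <;> assumption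
  · fin_cases i <;> assumption
  · fin_cases i <;> fin_cases j <;> first
      | exact absurd rfl hij
      | assumption
      | (simp only [Matrix.cons_val_zero, Matrix.cons_val_one, Matrix.cons_val, Fin.isValue, Fin.mk_one,
          Fin.zero_eta, Fin.reduceFinMk]; rw [O.hf.symm]; assumption)
  · fin_cases i <;> fin_cases j <;> first
      | exact absurd rfl hij
      | assumption
      | (simp only [Matrix.cons_val_zero, Matrix.cons_val_one, Matrix.cons_val, Fin.isValue, Fin.mk_one,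
          Fin.zero_eta, Fin.reduceFinMk]; rw [O.hg.symm]; assumption)
  · fin_cases i
    · exact ez
    · have := ez.mul e₀
      rwa [hh_comp O.hf O.dimU ha hc ha' hac haa hca, hh_comp O.hg O.dimW hb hd hb' hbd hbb hdb] at this
    · exact e₀
  · fin_cases i
    · exact hz
    · exact K.mul_mem hz hd₀
    · exact hd₀

/-- The involutions found beside a product of half-turns. -/
theorem find_frame {d₀ y : OQ Q} {c : U} {d : W} (hd₀ : d₀ ∈ K) (hc : f c c ≠ 0) (hd : g d d ≠ 0)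
    (e₀ : El T d₀ (hh f c) (hh g d)) (hy : Tcl T f g K y) (hyd : Commute y d₀) (hyd' : Tcl T f g K (y * d₀)) :
    Tens T y ∨ ∃ (e : Fin 3 → U) (b : Fin 3 → W) (s : Fin 3 → OQ Q), O.Frm e b s ∧ (∀ i, Commute y (s i)) ∧
      (GoodR T g K (b 0) ∨ GoodR T g K (b 1)) ∧ b 2 = d ∧ s 2 = d₀ := by
  haveI := finite_OQ Q
  have hyK := O.mem_of_tcl hy
  obtain ⟨r, hr, hdr⟩ := O.exists_goodR_perp hd
  obtain ⟨q, hq, eq⟩ := hr.2
  have hqT : Tt T f g K q := Or.inr ⟨r, hr, eq⟩
  obtain ⟨r', hr', hdr', hrr'⟩ := exists_third O.hg O.dimW hd hr.1 hdr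
  have hrd : g r d = 0 := (O.hg.symm d r).trans hdr
  have hqd : Commute q d₀ := by
    refine O.el_inj (eq.mul e₀) ?_
    have e1 := e₀.mul eq
    rw [LinearMap.comp_id, hh_comp O.hg O.dimW hd hr.1 hr' hdr hdr' hrr'] at e1
    rw [LinearMap.id_comp, hh_comp O.hg O.dimW hr.1 hd hr' hrd hrr' hdr']
    exact e1
  have htr : tr (d₀ * q) = 1 := by
    refine O.tr_D hc hr' ?_
    have e1 := e₀.mul eq
    rwa [hh_comp O.hg O.dimW hd hr.1 hr' hdr hdr' hrr', LinearMap.comp_id] at e1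
  rcases dihedral (O.sq_tcl hy) (O.sq_tt hqT) with
    ⟨-, j, hj⟩ | ⟨n, j, -, hcy, hcq, hz2, hz1, hcase⟩
  · exfalso
    refine O.absurd_tr htr (O.tr_tcl hyd') ?_
    have hcm : Commute ((y * q) ^ j) d₀ := (hyd.mul_left hqd).pow_left j
    rw [hyd.eq, ← hj, show d₀ * ((y * q) ^ j * q * ((y * q) ^ j)⁻¹) = (y * q) ^ j * (d₀ * q) * ((y * q) ^ j)⁻¹ by
      rw [← mul_assoc, ← mul_assoc, hcm.symm.eq]; simp only [mul_assoc], tr_conj]
  set z := (y * q) ^ n
  set m := (y * q) ^ j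
  have hne : z ≠ d₀ := fun e => by
    rcases hcase with ⟨-, -, hq'⟩ | ⟨-, hy'⟩
    · exact O.absurd_tr htr (O.tr_tt hqT) (by rw [← e, ← hq', tr_conj])
    · exact O.absurd_tr htr (O.tr_tcl hy) (by rw [← e, ← hy', tr_conj])
  have hzK : z ∈ K := K.pow_mem (K.mul_mem hyK hq) n
  have hzd : Commute z d₀ := (hyd.mul_left hqd).pow_left n
  have hzT : Tens T z := O.centr_tt hqT hzK hcq
  rcases O.split hzK hzT hz2 hz1 hd₀ hc hd e₀ hzd hne with ⟨t, ht, hct⟩ | ⟨a, b, ha, hb, hac, hbd, ez⟩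
  · exact Or.inl (O.centr_tt ht hyK (hct y hcy.symm hyd))
  obtain ⟨a', b', R⟩ := O.exists_frame hzK hd₀ ha hb hc hd hac hbd ez e₀
  refine Or.inr ⟨_, _, _, R, fun i => ?_, ?_, rfl, rfl⟩
  · fin_cases i
    · exact hcy.symm
    · exact hcy.symm.mul_right hyd
    · exact hyd
  obtain ⟨-, hB⟩ := O.comm_el ez eq (hh_isometry O.hf ha) (fun _ _ => rfl) (hh_isometry O.hg hb)
    (hh_isometry O.hg hr.1) hcq
  rcases hh_comm_cases O.hg hb hr.1 hB with h | hbr
  · exact Or.inl (O.goodR_congr hr hb h)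
  · refine Or.inr (O.goodR_congr hr (R.anW 1) ?_)
    have h1 : hh g r = hh g (![b, b', d] 1) := by
      have hbd2 : g b d = 0 := hbd
      rw [← hh_comp O.hg O.dimW hb hd hr.1 hbd2 hbr hdr]
      exact hh_comp O.hg O.dimW hb hd (R.anW 1) hbd2 (R.orW 0 1 (by decide)) (R.orW 2 1 (by decide))
    exact h1.symm

/-- A conjugate of a half-turn splitting a good product is a product. -/
theorem tens_good {d₀ y : OQ Q} {c : U} {d : W} (hd₀ : d₀ ∈ K) (hc : f c c ≠ 0) (hd : GoodR T g K d)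
    (e₀ : El T d₀ (hh f c) (hh g d)) (hy : Tcl T f g K y) (hyd : Commute y d₀) (hyd' : Tcl T f g K (y * d₀)) :
    Tens T y := by
  rcases O.find_frame hd₀ hc hd.1 e₀ hy hyd hyd' with h | ⟨e, b, s, R, hys, hgood, hb2, hs2⟩
  · exact h
  by_contra hny
  have hd2 : GoodR T g K (b 2) := hb2 ▸ hd
  have hall : ∀ i, GoodR T g K (b i) := by
    rcases hgood with h | h
    · have h1 := O.goodR_third h hd2 (R.anW 1) (R.orW _ _ (by decide)) (R.orW _ _ (by decide)) (R.orW _ _ (by decide))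
      intro i; fin_cases i <;> assumption
    · have h0 := O.goodR_third h hd2 (R.anW 0) (R.orW _ _ (by decide)) (R.orW _ _ (by decide)) (R.orW _ _ (by decide))
      intro i; fin_cases i <;> assumption
  exact O.triple_false R hy hys fun i => (O.step R hy hys (hall i)).resolve_left hny

/-- A conjugate of a half-turn splitting a product is a product. -/
theorem tens_pair {d₀ y : OQ Q} {c : U} {d : W} (hd₀ : d₀ ∈ K) (hc : f c c ≠ 0) (hd : g d d ≠ 0)
    (e₀ : El T d₀ (hh f c) (hh g d)) (hy : Tcl T f g K y) (hyd : Commute y d₀) (hyd' : Tcl T f g K (y * d₀)) :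
    Tens T y := by
  rcases O.find_frame hd₀ hc hd e₀ hy hyd hyd' with h | ⟨e, b, s, R, hys, hgood, -, -⟩
  · exact h
  obtain ⟨k, hk⟩ : ∃ k, GoodR T g K (b k) := by rcases hgood with h | h <;> exact ⟨_, h⟩
  rcases O.step R hy hys hk with h | h
  · exact h
  · exact O.tens_good (R.mem k) (R.anU k) hk (R.el k) hy (hys k) h

/-- The two half-turns of a product. -/
theorem pair_eq {d₀ y : OQ Q} {c : U} {d : W} (hd₀ : d₀ ∈ K) (hc : f c c ≠ 0) (hd : g d d ≠ 0)
    (e₀ : El T d₀ (hh f c) (hh g d)) (hy : Tcl T f g K y) (hyd : Commute y d₀) (hyd' : Tcl T f g K (y * d₀)) :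
    GoodL T f K c ∧ GoodR T g K d ∧ (El T y (hh f c) LinearMap.id ∨ El T y LinearMap.id (hh g d)) := by
  have hyT := O.tt_of_tens hy (O.tens_pair hd₀ hc hd e₀ hy hyd hyd')
  have hyK := O.mem_of_tcl hy
  obtain ⟨h1, h2⟩ := O.same_axis hc hd e₀ hyd (O.tr_tcl hyd')
  rcases hyT with ⟨a, ha, ey⟩ | ⟨b, hb, ey⟩
  · have hac := h1 a ha ey
    rw [← hac] at ey
    have hp := ey.mul e₀
    rw [LinearMap.id_comp, show hh f c ∘ₗ hh f c = LinearMap.id from LinearMap.ext (hh_hh O.hf hc)] at hp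
    exact ⟨⟨hc, y, hyK, ey⟩, ⟨hd, y * d₀, K.mul_mem hyK hd₀, hp⟩, Or.inl ey⟩
  · have hbd := h2 b hb ey
    rw [← hbd] at ey
    have hp := ey.mul e₀
    rw [LinearMap.id_comp, show hh g d ∘ₗ hh g d = LinearMap.id from LinearMap.ext (hh_hh O.hg hd)] at hp
    exact ⟨⟨hc, y * d₀, K.mul_mem hyK hd₀, hp⟩, ⟨hd, y, hyK, ey⟩, Or.inr ey⟩

/-- A product conjugate to a product of good half-turns is good. -/
theorem good_of_conj {d₀ z m : OQ Q} {c a : U} {d b : W} (hc : GoodL T f K c) (hd : GoodR T g K d)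
    (e₀ : El T d₀ (hh f c) (hh g d)) (hm : m ∈ K) (hz : z = m * d₀ * m⁻¹) (ha : f a a ≠ 0) (hb : g b b ≠ 0)
    (ez : El T z (hh f a) (hh g b)) : GoodL T f K a ∧ GoodR T g K b := by
  obtain ⟨k, hk, ek⟩ := hc.2
  obtain ⟨k', hk', ek'⟩ := hd.2
  have hkk : k * k' = d₀ := by
    refine O.el_inj ?_ e₀
    simpa using ek.mul ek'
  have hd₀ : d₀ ∈ K := hkk ▸ K.mul_mem hk hk'
  have hcd : Commute k d₀ := by
    refine O.el_inj (ek.mul e₀) ?_
    simpa using e₀.mul ek
  have hk2 : k * d₀ = k' := by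
    rw [← hkk, ← mul_assoc, O.sq_D (hh_hh O.hf hc.1) (fun y => rfl) ek, one_mul]
  obtain ⟨h1, h2, -⟩ := O.pair_eq (hz ▸ K.mul_mem (K.mul_mem hm hd₀) (K.inv_mem hm)) ha hb ez
    ((Tt.tcl (Or.inl ⟨c, hc, ek⟩)).of_conj hm) (hz ▸ O.conj_commute hcd) (by
      rw [hz, show m * k * m⁻¹ * (m * d₀ * m⁻¹) = m * (k * d₀) * m⁻¹ by group, hk2]
      exact (Tt.tcl (Or.inr ⟨d, hd, ek'⟩)).of_conj hm)
  exact ⟨h1, h2⟩

/-- A map sending a half-turn to one of the same factor is a product, to one of the other factor interchanges. -/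
theorem move {x k : OQ Q} {c : U} (hx : x ∈ K) (hc : GoodL T f K c) (ek : El T k (hh f c) LinearMap.id) :
    (∀ a, GoodL T f K a → El T (x * k * x⁻¹) (hh f a) LinearMap.id → Tens T x) ∧
      ∀ b, GoodR T g K b → El T (x * k * x⁻¹) LinearMap.id (hh g b) → Sw T x := by
  set p := ringChar F
  haveI : CharP F p := ringChar.charP F
  haveI hpf : Fact p.Prime := ⟨CharP.char_is_prime F p⟩
  have hp1 : p ≠ 2 := fun e => O.two (by
    have := ringChar.eq_iff.1 e
    exact CharTwo.two_eq_zero)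
  have hcomm : ∀ (w z : W) (s : OQ Q), El T s LinearMap.id (sv g w z) → Commute s k := fun w z s es =>
    O.el_inj (es.mul ek) (by simpa using ek.mul es)
  have hpow : ∀ (w z : W) (s : OQ Q), g w w = 0 → g w z = 0 → El T s LinearMap.id (sv g w z) → s ^ p = 1 := by
    intro w z s hw hwz es
    have h : ∀ n : ℕ, El T (s ^ n) LinearMap.id (sv g w ((n : F) • z)) := by
      intro n
      induction n with
      | zero => intro a y; simp [sv_apply]
      | succ n ih =>
        have e := es.mul ih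
        rw [pow_succ', Nat.cast_succ, add_smul, one_smul]
        rwa [O.sv_add hw hwz (by simp [hwz]), LinearMap.id_comp, add_comm] at e
    have h' := h p
    rw [CharP.cast_eq_zero, zero_smul] at h'
    exact O.el_ext fun a y => by rw [h' a y]; simp [sv_apply]
  constructor
  · intro a ha ea
    obtain ⟨A, B, e⟩ := O.key O.toTensor O.dimU (x := x) fun w z hw hwz hz s hs es =>
      kill O hp1 hx hs (hcomm w z s es) (hpow w z s hw hwz es) ha ea
    exact ⟨A, B, e⟩
  · intro b hb eb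
    obtain ⟨hb0, n, hn, en⟩ := hb
    obtain ⟨A, B, e⟩ := O.key O.toTensor.flip O.dimW (x := x) fun w z hw hwz hz s hs es =>
      kill O.flip hp1 hx hs (hcomm w z s es) (hpow w z s hw hwz es) ⟨hb0, n, hn, en.flip⟩ eb.flip
    exact ⟨A, B, fun a y => e a y⟩

/-- An involution interchanging the factors. -/
theorem tr_sw {x : OQ Q} (h : Sw T x) (h2 : x * x = 1) : tr x ≠ 1 := by
  classical
  obtain ⟨A, B, e⟩ := h
  have hxx : ∀ a y, T (B (A a)) (A (B y)) = T a y := fun a y => by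
    rw [← e, ← e]
    exact LinearEquiv.congr_fun (congrArg Subtype.val h2) (T a y)
  have := O.nontriv
  have := O.nontrivW
  obtain ⟨a₀, ha₀⟩ := exists_ne (0 : U)
  obtain ⟨y₀, hy₀⟩ := exists_ne (0 : W)
  have hAB0 : A (B y₀) ≠ 0 := fun e0 => hy₀ (O.T_eq_zero' ha₀ (by rw [← hxx, e0, map_zero]))
  obtain ⟨z, hz⟩ := O.exists_partner hAB0
  set t := g z y₀
  have hBA : ∀ a, B (A a) = t • a := fun a => by
    have h1 := congrArg (O.C z) (hxx a y₀)
    rwa [O.C_T, O.C_T, hz, one_smul] at h1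
  have hAB : ∀ y, t • A (B y) = y := fun y => O.T_injective' ha₀ (by
    have h1 := hxx a₀ y
    rw [hBA, map_smul, LinearMap.smul_apply] at h1
    rw [map_smul]; exact h1)
  have hAinj : Function.Injective A := fun p q hpq => by
    have h1 := congrArg B hpq
    rw [hBA, hBA] at h1
    refine smul_right_injective U (fun e0 => hy₀ ?_) h1
    rw [← hAB y₀, e0, zero_smul]
  have hAbij : Function.Bijective A :=
    ⟨hAinj, (LinearMap.injective_iff_surjective_of_finrank_eq_finrank (by rw [O.dimU, O.dimW])).1 hAinj⟩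
  have ht : t * t = 1 := by
    have h1 : t • A (B (A a₀)) = A a₀ := hAB _
    rw [hBA, map_smul, smul_smul] at h1
    exact smul_left_injective F (fun e0 => ha₀ (hAinj (e0.trans (map_zero A).symm))) (h1.trans (one_smul F _).symm)
  set φ : TensorProduct F U W →ₗ[F] V := TensorProduct.lift T
  have hsurj : Function.Surjective φ := by
    rw [← LinearMap.range_eq_top, eq_top_iff, ← O.span, Submodule.span_le]
    rintro _ ⟨⟨a, y⟩, rfl⟩
    exact ⟨a ⊗ₜ y, by simp [φ]⟩
  have hbij : Function.Bijective φ := ⟨(LinearMap.injective_iff_surjective_of_finrank_eq_finrank (by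
    rw [Module.finrank_tensorProduct, O.finrank_eq])).2 hsurj, hsurj⟩
  let bU := Module.finBasisOfFinrankEq F U O.dimU
  let bW := bU.map (LinearEquiv.ofBijective A hAbij)
  let bb := (bU.tensorProduct bW).map (LinearEquiv.ofBijective φ hbij)
  have hbb : ∀ i j, bb (i, j) = T (bU i) (A (bU j)) := fun i j => by simp [bb, bW, φ]
  have hxb : ∀ i j, (x : V ≃ₗ[F] V) (bb (i, j)) = t • bb (j, i) := fun i j => by
    rw [hbb, hbb, e, hBA, map_smul, LinearMap.smul_apply]
  have htr : tr x = 3 * t := by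
    rw [tr, LinearMap.trace_eq_matrix_trace F bb, Matrix.trace, Fintype.sum_prod_type]
    have hdiag : ∀ i j, LinearMap.toMatrix bb bb ((x : V ≃ₗ[F] V) : V →ₗ[F] V) (i, j) (i, j) =
        if i = j then t else 0 := fun i j => by
      rw [LinearMap.toMatrix_apply, LinearEquiv.coe_coe, hxb, map_smul, Basis.repr_self, Finsupp.smul_apply,
        Finsupp.single_apply, smul_eq_mul]
      by_cases hij : i = j
      · simp [hij]
      · simp [hij, Ne.symm hij]
    simp only [Matrix.diag, hdiag]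
    simp
  intro h1
  rw [htr] at h1
  rcases mul_self_eq_one_iff.1 ht with h3 | h3 <;> rw [h3] at h1
  · exact O.two (by linear_combination h1)
  · exact O.four_ne (by linear_combination -h1)

/-- A conjugate of a product of two good half-turns is a product. -/
theorem tens_conj_good {m d₀ : OQ Q} {c : U} {d : W} (hm : m ∈ K) (hc : GoodL T f K c) (hd : GoodR T g K d)
    (e₀ : El T d₀ (hh f c) (hh g d)) : Tens T (m * d₀ * m⁻¹) := by
  haveI := finite_OQ Q
  set x := m * d₀ * m⁻¹ with hxdef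
  obtain ⟨k, hk, ek⟩ := hc.2
  obtain ⟨k', hk', ek'⟩ := hd.2
  have hkk : k * k' = d₀ := by
    refine O.el_inj ?_ e₀
    simpa using ek.mul ek'
  have hxK : x ∈ K := K.mul_mem (K.mul_mem hm (hkk ▸ K.mul_mem hk hk')) (K.inv_mem hm)
  have hd2 : d₀ * d₀ = 1 := O.sq_D (hh_hh O.hf hc.1) (hh_hh O.hg hd.1) e₀
  have hx2 : x * x = 1 := by
    rw [show x * x = m * (d₀ * d₀) * m⁻¹ by simp only [x]; group, hd2]; group
  have hxtr : tr x = 1 := by rw [tr_conj, O.tr_D hc.1 hd.1 e₀]
  have htT : Tt T f g K k' := Or.inr ⟨d, hd, ek'⟩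
  rcases dihedral hx2 (O.sq_tt htT) with ⟨-, j, hj⟩ | ⟨n, j, -, hcx, hct, hz2, hz1, hcase⟩
  · exact (O.absurd_tr hxtr (O.tr_tt htT) (by rw [← hj, tr_conj])).elim
  set z := (x * k') ^ n with hzdef
  set r := (x * k') ^ j
  have hzK : z ∈ K := K.pow_mem (K.mul_mem hxK hk') n
  have hrK : r ∈ K := K.pow_mem (K.mul_mem hxK hk') j
  have hzr : Commute r z := Commute.pow_pow_self _ _ _
  rcases O.invol hzK (O.centr_tt htT hzK hct) hz2 hz1 with ⟨a, ha, ez⟩ | ⟨b, hb, ez⟩ | ⟨a, b, ha, hb, ez⟩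
  · exact O.centr ha ez hxK hcx.symm
  · exact O.centr_right hb ez hxK hcx.symm
  by_cases hgood : GoodR T g K b
  · -- a good product commuting with `x`
    obtain ⟨q, hq, eq⟩ := hgood.2
    have hLa : GoodL T f K a := by
      refine ⟨ha, z * q, K.mul_mem hzK hq, ?_⟩
      have h := ez.mul eq
      rwa [LinearMap.comp_id, show hh g b ∘ₗ hh g b = LinearMap.id from LinearMap.ext (hh_hh O.hg hb)] at h
    obtain ⟨p, hp, ep⟩ := hLa.2
    have hpz : Commute p z := O.el_inj (ep.mul ez) (by simpa using ez.mul ep)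
    have hpq : p * z = q := by
      refine O.el_inj ?_ eq
      have h := ep.mul ez
      rwa [LinearMap.id_comp, show hh f a ∘ₗ hh f a = LinearMap.id from LinearMap.ext (hh_hh O.hf ha)] at h
    have hxz : x * z * x⁻¹ = z := by rw [hcx.symm.eq, mul_inv_cancel_right]
    obtain ⟨-, -, h⟩ := O.pair_eq hzK ha hb ez ((Tt.tcl (Or.inl ⟨a, hLa, ep⟩)).of_conj hxK)
      (by have := O.conj_commute (m := x) hpz; rwa [hxz] at this) (by
        rw [show x * p * x⁻¹ * z = x * (p * z) * x⁻¹ by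
          conv_lhs => rw [← hxz]
          group, hpq]
        exact (Tt.tcl (Or.inr ⟨b, hgood, eq⟩)).of_conj hxK)
    rcases h with h | h
    · exact (O.move hxK hLa ep).1 a hLa h
    · exact absurd hxtr (O.tr_sw ((O.move hxK hLa ep).2 b hgood h) hx2)
  -- a product with a bad axis
  exfalso
  obtain ⟨-, hB⟩ := O.comm_el ez ek' (hh_isometry O.hf ha) (fun _ _ => rfl) (hh_isometry O.hg hb)
    (hh_isometry O.hg hd.1) hct
  rcases hh_comm_cases O.hg hb hd.1 hB with h | hbd
  · exact hgood (O.goodR_congr hd hb h)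
  obtain ⟨v, hv, hbv, hdv⟩ := exists_third O.hg O.dimW hb hd.1 hbd
  have htr : tr (z * k') = 1 := by
    refine O.tr_D ha hv ?_
    have h := ez.mul ek'
    rwa [hh_comp O.hg O.dimW hb hd.1 hv hbd hbv hdv, LinearMap.comp_id] at h
  rcases hcase with ⟨-, -, ht'⟩ | ⟨-, hx'⟩
  · exact O.absurd_tr htr (O.tr_tt htT) (by rw [← ht', tr_conj])
  -- `z * x` is conjugate to a half-turn
  have hy : Tcl T f g K (z * x) := by
    rw [show z * x = r * k' * r⁻¹ by
      conv_lhs => rw [← hx', ← mul_assoc, ← mul_assoc, ← hzr.eq, mul_assoc r z, ← mul_assoc z, hz2, one_mul]]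
    exact htT.tcl.of_conj hrK
  have hyx : Commute (z * x) x := hcx.mul_left (Commute.refl x)
  obtain ⟨h, hhK, ht⟩ := hy
  set t₀ := h * (z * x) * h⁻¹
  set x' := h * x * h⁻¹
  set z' := h * z * h⁻¹
  have htz : t₀ * x' = z' := by
    simp only [t₀, x', z']
    rw [show h * (z * x) * h⁻¹ * (h * x * h⁻¹) = h * (z * (x * x)) * h⁻¹ by group, hx2, mul_one]
  have htx : Commute t₀ x' := O.conj_commute hyx
  have hx'K : x' ∈ K := K.mul_mem (K.mul_mem hhK hxK) (K.inv_mem hhK)
  have hx'tr : tr x' = 1 := by rw [tr_conj, hxtr]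
  have hx'2 : x' * x' = 1 := by
    rw [show x' * x' = h * (x * x) * h⁻¹ by simp only [x']; group, hx2]; group
  have hx'c : x' = (h * m) * d₀ * (h * m)⁻¹ := by simp only [x', hxdef]; group
  have hx'1 : x' ≠ 1 := fun e => by
    rw [hx'c] at e
    have hd1 : d₀ = 1 := by
      calc d₀ = (h * m)⁻¹ * (h * m * d₀ * (h * m)⁻¹) * (h * m) := by group
        _ = 1 := by rw [e]; group
    obtain ⟨u, hu, -⟩ := O.el_unique e₀ (hd1.symm ▸ El.one) (fun a b => rfl) (hh_isometry O.hg hd.1)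
    exact hh_ne_id O.hf O.dimU hc.1 (t := u) (LinearMap.ext hu)
  rcases O.invol hx'K (O.centr_tt ht hx'K htx.symm) hx'2 hx'1 with ⟨a', ha', e'⟩ | ⟨b', hb', e'⟩ | ⟨a', b', ha', hb', e'⟩
  · exact O.absurd_tr hx'tr (O.tr_tt (Or.inl ⟨a', ha', e'⟩)) rfl
  · exact O.absurd_tr hx'tr (O.tr_tt (Or.inr ⟨b', hb', e'⟩)) rfl
  obtain ⟨hgL, hgR⟩ := O.good_of_conj hc hd e₀ (K.mul_mem hhK hm) hx'c ha' hb' e'
  obtain ⟨a₁, b₁, hA1, hB1, e1⟩ : ∃ a₁ b₁, GoodL T f K a₁ ∧ GoodR T g K b₁ ∧ El T z' (hh f a₁) (hh g b₁) := by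
    have hztr : tr z' ≠ -3 := fun e => by
      rw [tr_conj] at e
      exact O.absurd_tr (O.tr_D ha hb ez) e rfl
    rcases ht with ⟨c₀, hc₀, et⟩ | ⟨c₀, hc₀, et⟩
    · obtain ⟨hA, -⟩ := O.comm_el et e' (hh_isometry O.hf hc₀.1) (hh_isometry O.hf ha') (fun _ _ => rfl)
        (hh_isometry O.hg hb') htx
      have h1 := et.mul e'
      rw [htz, LinearMap.id_comp] at h1
      rcases hh_comm_cases O.hf hc₀.1 ha' hA with h2 | h2
      · rw [h2, show hh f a' ∘ₗ hh f a' = LinearMap.id from LinearMap.ext (hh_hh O.hf ha')] at h1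
        exact absurd (O.tr_tt (Or.inr ⟨b', hgR, h1⟩)) hztr
      · obtain ⟨u, hu, h3, h4⟩ := exists_third O.hf O.dimU hc₀.1 ha' h2
        rw [hh_comp O.hf O.dimU hc₀.1 ha' hu h2 h3 h4] at h1
        obtain ⟨p, hp, ep⟩ := hc₀.2
        obtain ⟨p', hp', ep'⟩ := hgL.2
        refine ⟨u, b', ⟨hu, p * p', K.mul_mem hp hp', ?_⟩, hgR, h1⟩
        have h5 := ep.mul ep'
        rwa [hh_comp O.hf O.dimU hc₀.1 ha' hu h2 h3 h4, LinearMap.id_comp] at h5
    · obtain ⟨-, hB⟩ := O.comm_el et e' (fun _ _ => rfl) (hh_isometry O.hf ha') (hh_isometry O.hg hc₀.1)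
        (hh_isometry O.hg hb') htx
      have h1 := et.mul e'
      rw [htz, LinearMap.id_comp] at h1
      rcases hh_comm_cases O.hg hc₀.1 hb' hB with h2 | h2
      · rw [h2, show hh g b' ∘ₗ hh g b' = LinearMap.id from LinearMap.ext (hh_hh O.hg hb')] at h1
        exact absurd (O.tr_tt (Or.inl ⟨a', hgL, h1⟩)) hztr
      · obtain ⟨u, hu, h3, h4⟩ := exists_third O.hg O.dimW hc₀.1 hb' h2
        rw [hh_comp O.hg O.dimW hc₀.1 hb' hu h2 h3 h4] at h1
        exact ⟨a', u, hgL, O.goodR_third hc₀ hgR hu h2 h3 h4, h1⟩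
  exact hgood (O.good_of_conj hA1 hB1 e1 (K.inv_mem hhK) (by simp only [z']; group) ha hb ez).2

/-- **Every element preserves or interchanges the factors.** -/
theorem tens_or_sw {x : OQ Q} (hx : x ∈ K) : Tens T x ∨ Sw T x := by
  obtain ⟨c, hc⟩ := O.exists_goodL
  obtain ⟨r, hr, hcr⟩ := O.exists_goodL_perp hc.1
  obtain ⟨u, hu, hcu, hru⟩ := exists_third O.hf O.dimU hc.1 hr.1 hcr
  have := O.nontrivW
  obtain ⟨w, hw⟩ := O.hg.exists_aniso
  obtain ⟨d, hd, -⟩ := O.exists_goodR_perp hw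
  obtain ⟨k, hk, ek⟩ := hc.2
  obtain ⟨p, hp, ep⟩ := hr.2
  obtain ⟨q, hq, eq⟩ := hd.2
  have hgu : GoodL T f K u := by
    refine ⟨hu, k * p, K.mul_mem hk hp, ?_⟩
    have := ek.mul ep
    rwa [hh_comp O.hf O.dimU hc.1 hr.1 hu hcr hcu hru, LinearMap.id_comp] at this
  obtain ⟨p', hp', ep'⟩ := hgu.2
  have e1 : El T (p * q) (hh f r) (hh g d) := by simpa using ep.mul eq
  have e2 : El T (p' * q) (hh f u) (hh g d) := by simpa using ep'.mul eq
  have hkeq : p * q * (p' * q) = k := by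
    refine O.el_inj ?_ ek
    have h := e1.mul e2
    rwa [show hh g d ∘ₗ hh g d = LinearMap.id from LinearMap.ext (hh_hh O.hg hd.1),
      hh_comp O.hf O.dimU hr.1 hu hc.1 hru ((O.hf.symm c r).trans hcr) ((O.hf.symm c u).trans hcu)] at h
  have hkT : Tt T f g K k := Or.inl ⟨c, hc, ek⟩
  have hxkT : Tens T (x * k * x⁻¹) := by
    rw [← hkeq, show x * (p * q * (p' * q)) * x⁻¹ = x * (p * q) * x⁻¹ * (x * (p' * q) * x⁻¹) by group]
    exact (O.tens_conj_good hx hr hd e1).mul (O.tens_conj_good hx hgu hd e2)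
  rcases O.tt_of_tens (hkT.tcl.of_conj hx) hxkT with ⟨a, ha, e⟩ | ⟨b, hb, e⟩
  · exact Or.inl ((O.move hx hc ek).1 a ha e)
  · exact Or.inr ((O.move hx hc ek).2 b hb e)

end Sq

end CfsgLib.Geo.OrthTensor.Square
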