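/-
The stabiliser of a tensor square of a three-dimensional orthogonal space is maximal in `Ω₉`.
-/
import Cfsg.Agent.Lib.Geo.OrthTensor.Square.Main
import Cfsg.Agent.Lib.Geo.OrthTensor.Final
import Cfsg.Agent.Lib.Geo.Asch.OrthNotLe
import Cfsg.Agent.Lib.Geo.Asch.TwoFactors

set_option autoImplicit false
set_option linter.unusedSectionVars false

namespace CfsgLib.Geo.OrthTensor.Square

open CfsgLib.Classical CfsgLib.Classical.Quad CfsgLib.Geo.OrthMax Module
open CfsgLib.Geo.MixTensor (SymForm)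
open QuadraticMap (polar polarBilin)
open LinearMap (BilinForm)
open scoped Kronecker
open Matrix

variable {F : Type*} [Field F]

/-- The tensor-square alternative for the overgroups. -/
theorem square_dichotomy [Finite F] {U W V : Type*} [AddCommGroup U] [Module F U] [FiniteDimensional F U]
    [AddCommGroup W] [Module F W] [FiniteDimensional F W] [AddCommGroup V] [Module F V] [FiniteDimensional F V]
    {Q : QuadraticForm F V} {f : BilinForm F U} {g : BilinForm F W} {T : U →ₗ[F] W →ₗ[F] V}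
    {K : Subgroup (OQ Q)} (D : Tensor Q f g T) (hU : finrank F U = 3) (hW : finrank F W = 3)
    (sf : Small f) (sg : Small g) (h5 : 5 ≤ Nat.card F)
    (hbase : ∀ k ∈ commutator (OQ Q), Tens T k → k ∈ K) (hsub : K ≤ commutator (OQ Q)) :
    eichGroup D.hQ ≤ K ∨ ∀ k ∈ K, Tens T k ∨ Sw T k := by
  have P₁ : Pre Q f g T K := Pre.of_tens D (by omega) sf hbase
  have P₂ : Pre Q g f T.flip K := Pre.of_tens D.flip (by omega) sg fun k hk h => hbase k hk h.flip
  by_cases h : eichGroup D.hQ ≤ K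
  · exact Or.inl h
  refine Or.inr fun k hk => ?_
  have O : Sq Q f g T K :=
    { D with
      dimU := hU, dimW := hW, q5 := h5, base := hbase, sub := hsub
      ncW := fun k hk w φ hw0 hw hka => by
        by_contra hne
        exact h (P₁.eichGroup_le hw0 hw ⟨k, hk, hka⟩ hne)
      ncU := fun k hk w φ hw0 hw hka => by
        by_contra hne
        exact h (P₂.eichGroup_le hw0 hw ⟨k, hk, fun y a => hka a y⟩ hne) }
  exact O.tens_or_sw hk

section Coord

variable {ι : Type} [Fintype ι] [DecidableEq ι] {d : ℕ}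

/-- A map permuting the factors lies in the tensor-wreath subgroup. -/
theorem mem_wreath_of_pure (e : ι ≃ (Fin 2 → Fin d)) (P g : Matrix.GeneralLinearGroup ι F) (π : Equiv.Perm (Fin 2))
    (gs : Fin 2 → Matrix.GeneralLinearGroup (Fin d) F)
    (h : ∀ (p : Fin 2 → Fin d), (g : Matrix ι ι F) *ᵥ
        pureTensor (e.trans (finTwoArrowEquiv (Fin d))) P (Pi.single (p 0) 1) (Pi.single (p 1) 1) =
      pureTensor (e.trans (finTwoArrowEquiv (Fin d))) P
        (fun i => (gs 0 : Matrix (Fin d) (Fin d) F) i (p (π.symm 0)))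
        (fun i => (gs 1 : Matrix (Fin d) (Fin d) F) i (p (π.symm 1)))) :
    g ∈ Cfsg.Geo.tensorWreathSubgroup d 2 e P := by
  refine CfsgLib.Geo.Asch.mem_tensorWreathSubgroup_of_coord π gs ?_
  ext x y
  rw [CfsgLib.Geo.Asch.mul_permT, CfsgLib.Geo.Asch.pureT_apply, Fin.prod_univ_two]
  have h1 := congrArg (fun v => (((P⁻¹ : Matrix.GeneralLinearGroup ι F) : Matrix ι ι F) *ᵥ v) (e.symm x)) (h y)
  simp only [pureTensor, Matrix.mulVec_mulVec] at h1
  rw [← Matrix.mul_assoc] at h1
  rw [Units.inv_mul, Matrix.one_mulVec] at h1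
  have hs : (fun p : Fin d × Fin d => (Pi.single (y 0) (1 : F) : Fin d → F) p.1 *
      (Pi.single (y 1) (1 : F) : Fin d → F) p.2) ∘ (e.trans (finTwoArrowEquiv (Fin d))) =
      Pi.single (e.symm y) 1 := by
    funext i
    by_cases hi : i = e.symm y
    · subst hi
      simp [finTwoArrowEquiv]
    · rw [Pi.single_eq_of_ne hi]
      have : ¬ (e i 0 = y 0 ∧ e i 1 = y 1) := fun ⟨a, b⟩ => hi (e.injective (by
        rw [Equiv.apply_symm_apply]
        funext j
        fin_cases j <;> assumption))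
      rcases not_and_or.1 this with h0 | h0 <;> simp [finTwoArrowEquiv, h0]
  rw [hs, Matrix.mulVec_single_one] at h1
  rw [CfsgLib.Geo.Asch.coord, Matrix.submatrix_apply]
  simpa [finTwoArrowEquiv, Matrix.mul_assoc] using h1

end Coord

/-- **The stabiliser of the tensor square of a three-dimensional orthogonal space is maximal.** -/
theorem maximal [Fintype F] {ι : Type} [Fintype ι] [DecidableEq ι] {Q : QuadraticForm F (ι → F)}
    (hQ : (polarBilin Q).Nondegenerate) (h2 : (2 : F) ≠ 0) (h5 : 5 ≤ Fintype.card F)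
    (e : ι ≃ (Fin 2 → Fin 3)) (P : Matrix.GeneralLinearGroup ι F)
    {f₁ : (Fin 3 → F) → (Fin 3 → F) → F} (hf₁ : Cfsg.Geo.IsSymmetricForm f₁)
    (hT : Cfsg.Geo.IsTensorPowerFormStructure id (polar ⇑Q) f₁ e P) :
    Cfsg.Geo.IsMaximalIn (Cfsg.Geo.omegaGL (⇑Q))
      (Cfsg.Geo.tensorWreathSubgroup 3 2 e P ⊓ Cfsg.Geo.omegaGL (⇑Q)) := by
  classical
  obtain ⟨c, hc, hT⟩ := hT
  set e₂ : ι ≃ Fin 3 × Fin 3 := e.trans (finTwoArrowEquiv (Fin 3)) with he₂
  have hT₂ : ∀ x y : Fin 3 × Fin 3 → F,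
      polar ⇑Q ((P : Matrix ι ι F) *ᵥ (x ∘ e₂)) ((P : Matrix ι ι F) *ᵥ (y ∘ e₂)) =
        c * Cfsg.Geo.formOfGram id (Cfsg.Geo.gramMatrix f₁ ⊗ₖ Cfsg.Geo.gramMatrix f₁) x y := by
    intro x y
    rw [show x ∘ e₂ = (x ∘ finTwoArrowEquiv (Fin 3)) ∘ e from rfl,
      show y ∘ e₂ = (y ∘ finTwoArrowEquiv (Fin 3)) ∘ e from rfl, hT]
    congr 1
    unfold Cfsg.Geo.formOfGram
    rw [← (finTwoArrowEquiv (Fin 3)).sum_comp]
    refine Finset.sum_congr rfl fun a _ => ?_
    rw [← (finTwoArrowEquiv (Fin 3)).sum_comp (fun b => _ * (Cfsg.Geo.gramMatrix f₁ ⊗ₖ Cfsg.Geo.gramMatrix f₁) _ b * id (y b))]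
    refine Finset.sum_congr rfl fun b _ => ?_
    simp [finTwoArrowEquiv, Fin.prod_univ_two]
  have hcard : Fintype.card ι = 9 := by simpa using Fintype.card_congr e
  let g : BilinForm F (Fin 3 → F) := LinearMap.mk₂ F f₁ hf₁.bilinear.add_left hf₁.bilinear.smul_left
    hf₁.bilinear.add_right hf₁.bilinear.smul_right
  let f : BilinForm F (Fin 3 → F) := c • g
  let T : (Fin 3 → F) →ₗ[F] (Fin 3 → F) →ₗ[F] (ι → F) := LinearMap.mk₂ F (pureTensor e₂ P)
    (fun x x' y => by simp only [pureTensor, ← Matrix.mulVec_add]; congr 1; funext i; simp [add_mul])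
    (fun s x y => by rw [pureTensor_smul_left, pureTensor_smul_right])
    (fun x y y' => pureTensor_add_right e₂ P x y y')
    (fun s x y => pureTensor_smul_right e₂ P s x y)
  have hg : SymForm g := by
    refine ⟨h2, ?_, fun a b => hf₁.symm b a⟩
    constructor <;> intro x hx <;> by_contra h0
    · obtain ⟨y, hy⟩ := (hf₁.nondegenerate x h0).2
      exact hy (hx y)
    · obtain ⟨y, hy⟩ := (hf₁.nondegenerate x h0).1
      exact hy (hx y)
  have hf : SymForm f := by
    refine ⟨h2, ?_, fun a b => by show c * f₁ b a = c * f₁ a b; rw [hf₁.symm]⟩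
    constructor <;> intro x hx <;> by_contra h0
    · obtain ⟨y, hy⟩ := (hf₁.nondegenerate x h0).2
      exact hy ((mul_eq_zero.1 (hx y)).resolve_left hc)
    · obtain ⟨y, hy⟩ := (hf₁.nondegenerate x h0).1
      exact hy ((mul_eq_zero.1 (hx y)).resolve_left hc)
  have hspan : Submodule.span F (Set.range fun p : (Fin 3 → F) × (Fin 3 → F) => T p.1 p.2) = ⊤ := by
    refine eq_top_iff.2 fun v _ => ?_
    set u := (((P⁻¹ : Matrix.GeneralLinearGroup ι F) : Matrix ι ι F) *ᵥ v)
    have ev : v = ∑ q : Fin 3 × Fin 3, u (e₂.symm q) • T (Pi.single q.1 1) (Pi.single q.2 1) := by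
      rw [← Matrix.one_mulVec v, ← Units.val_one, ← mul_inv_cancel P, Units.val_mul, ← Matrix.mulVec_mulVec]
      simp only [T, LinearMap.mk₂_apply, pureTensor, ← Matrix.mulVec_smul, ← Matrix.mulVec_sum]
      congr 1
      funext i
      rw [Finset.sum_apply, Finset.sum_eq_single (e₂ i)]
      · simp [u]
      · intro q _ hq
        rcases not_and_or.1 (fun h : q.1 = (e₂ i).1 ∧ q.2 = (e₂ i).2 => hq (Prod.ext h.1 h.2)) with h | h <;>
          simp [Ne.symm h]
      · simp
    rw [ev]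
    exact Submodule.sum_mem _ fun q _ => Submodule.smul_mem _ _ (Submodule.subset_span ⟨(_, _), rfl⟩)
  have D : Tensor Q f g T :=
    { hQ := hQ
      hf := hf
      hg := hg
      polarT := fun a b y z => by
        show polar ⇑Q (pureTensor e₂ P a y) (pureTensor e₂ P b z) = c * f₁ a b * f₁ y z
        rw [polar_pureTensor e₂ P hf₁.bilinear hf₁.bilinear hT₂, mul_assoc]
      span := hspan }
  let e' := oEquiv Q
  have hn5 : 5 ≤ Module.finrank F (ι → F) := by rw [Module.finrank_pi]; omega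
  have hΩ : ∀ g : Cfsg.isometryGroup F (⇑Q),
      (g : Matrix.GeneralLinearGroup ι F) ∈ Cfsg.Geo.omegaGL (⇑Q) ↔ e' g ∈ eichGroup hQ := by
    intro g
    have hmap : (commutator ↥(Cfsg.isometryGroup F (⇑Q))).map e'.toMonoidHom = commutator (OQ Q) := by
      rw [commutator_def, commutator_def, Subgroup.map_commutator,
        Subgroup.map_top_of_surjective _ e'.surjective]
    rw [eichGroup_eq_commutator hQ hn5, ← hmap, Subgroup.mem_map_equiv, MulEquiv.symm_apply_apply]
    exact ⟨fun ⟨g', hg', hgg⟩ => by rw [← Subtype.ext hgg]; exact hg', fun h => ⟨g, h, rfl⟩⟩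
  have hiso : ∀ x, x ∈ Cfsg.Geo.omegaGL (⇑Q) → x ∈ Cfsg.isometryGroup F (⇑Q) := by
    rintro _ ⟨g, -, rfl⟩
    exact g.2
  have hact : ∀ (k : OQ Q) v, (((e'.symm k : Cfsg.isometryGroup F (⇑Q)) :
      Matrix.GeneralLinearGroup ι F) : Matrix ι ι F) *ᵥ v = (k : (ι → F) ≃ₗ[F] (ι → F)) v := fun k v => by
    rw [← oEquiv_apply, MulEquiv.apply_symm_apply]
  have hinj : ∀ (A : (Fin 3 → F) →ₗ[F] (Fin 3 → F)),
      (∀ a, A a = 0 → a = 0) → IsUnit (LinearMap.toMatrix' A) := by
    intro A hA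
    refine Matrix.mulVec_injective_iff_isUnit.1 fun a b hab => ?_
    rw [LinearMap.toMatrix'_mulVec, LinearMap.toMatrix'_mulVec] at hab
    exact sub_eq_zero.1 (hA _ (by rw [map_sub, hab, sub_self]))
  have hy₀ : (Pi.single 0 1 : Fin 3 → F) ≠ 0 := fun h => one_ne_zero (α := F) (by simpa using congrFun h 0)
  -- membership
  have htoW : ∀ k : OQ Q, Tens T k ∨ Sw T k →
      ((e'.symm k : Cfsg.isometryGroup F (⇑Q)) : Matrix.GeneralLinearGroup ι F) ∈
        Cfsg.Geo.tensorWreathSubgroup 3 2 e P := by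
    intro k h
    rcases h with ⟨A, B, hk⟩ | ⟨A, B, hk⟩
    · obtain ⟨a, ha⟩ := hinj A fun v hv => by
        by_contra h0
        exact hy₀ (D.T_eq_zero' h0 ((k : (ι → F) ≃ₗ[F] (ι → F)).injective (by rw [hk, hv]; simp)))
      obtain ⟨b, hb⟩ := hinj B fun v hv => by
        by_contra h0
        exact hy₀ (D.T_eq_zero h0 ((k : (ι → F) ≃ₗ[F] (ι → F)).injective (by rw [hk, hv]; simp)))
      refine mem_wreath_of_pure e P _ 1 ![a, b] fun p => ?_
      rw [hact]
      refine (hk (Pi.single (p 0) 1) (Pi.single (p 1) 1)).trans ?_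
      show pureTensor e₂ P _ _ = _
      simp only [Matrix.cons_val_zero, Matrix.cons_val_one, Equiv.Perm.one_symm, Equiv.Perm.coe_one, id_eq]
      congr 1
      · funext i; rw [ha, LinearMap.toMatrix'_apply]
      · funext i; rw [hb, LinearMap.toMatrix'_apply]
    · obtain ⟨a, ha⟩ := hinj A fun v hv => by
        by_contra h0
        exact hy₀ (D.T_eq_zero' h0 ((k : (ι → F) ≃ₗ[F] (ι → F)).injective (by rw [hk, hv]; simp)))
      obtain ⟨b, hb⟩ := hinj B fun v hv => by
        by_contra h0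
        exact hy₀ (D.T_eq_zero h0 ((k : (ι → F) ≃ₗ[F] (ι → F)).injective (by rw [hk, hv]; simp)))
      refine mem_wreath_of_pure e P _ (Equiv.swap 0 1) ![b, a] fun p => ?_
      rw [hact]
      refine (hk (Pi.single (p 0) 1) (Pi.single (p 1) 1)).trans ?_
      show pureTensor e₂ P _ _ = _
      simp only [Matrix.cons_val_zero, Matrix.cons_val_one, Equiv.symm_swap, Equiv.swap_apply_left,
        Equiv.swap_apply_right]
      congr 1
      · funext i; rw [hb, LinearMap.toMatrix'_apply]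
      · funext i; rw [ha, LinearMap.toMatrix'_apply]
  refine ⟨lt_of_le_of_ne inf_le_right fun he => ?_, fun M hHM hMS => ?_⟩
  · exact CfsgLib.Geo.Asch.not_omega_le_wreath_two h2 hQ (by omega) le_rfl e P (he.ge.trans inf_le_left)
  set K := (M.subgroupOf (Cfsg.isometryGroup F (⇑Q))).map e'.toMonoidHom
  have hmK : ∀ g : Cfsg.isometryGroup F (⇑Q), e' g ∈ K ↔ (g : Matrix.GeneralLinearGroup ι F) ∈ M :=
    fun g => by
      rw [Subgroup.mem_map_equiv, MulEquiv.symm_apply_apply, Subgroup.mem_subgroupOf]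
  have hbase : ∀ k ∈ commutator (OQ Q), Tens T k → k ∈ K := by
    intro k hk hT'
    rw [← eichGroup_eq_commutator hQ hn5] at hk
    have h := (hmK (e'.symm k)).2 (hHM ⟨htoW k (Or.inl hT'), (hΩ _).2 (by rw [MulEquiv.apply_symm_apply]; exact hk)⟩)
    rwa [MulEquiv.apply_symm_apply] at h
  have hsub : K ≤ commutator (OQ Q) := fun k hk => by
    obtain ⟨g, rfl⟩ := e'.surjective k
    rw [← eichGroup_eq_commutator hQ hn5]
    exact (hΩ g).1 (hMS ((hmK g).1 hk))
  have hadm : Adm f₁ := ⟨fun h => by omega, fun h => absurd h (by decide)⟩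
  rcases square_dichotomy D (by simp) (by simp) (small_of_adm hf hc (fun u v => rfl) le_rfl hadm)
    (small_of_adm hg one_ne_zero (fun u v => (one_mul _).symm) le_rfl hadm)
    (by rwa [Nat.card_eq_fintype_card]) hbase hsub with hle | h
  · exact Or.inr (le_antisymm hMS fun x hx => (hmK ⟨x, hiso x hx⟩).1 (hle ((hΩ ⟨x, _⟩).1 hx)))
  · refine Or.inl (le_antisymm (le_inf (fun x hx => ?_) hMS) hHM)
    have h' := htoW _ (h _ ((hmK ⟨x, hiso x (hMS hx)⟩).2 hx))
    rwa [MulEquiv.symm_apply_apply] at h'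

end CfsgLib.Geo.OrthTensor.Square
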